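import Mathlib

/-!
Elementary elements of the symplectic group acting on column vectors, described through the form
`om`, and the subgroups fixing prescribed hyperbolic pairs.
-/

set_option autoImplicit false

namespace Cfsg.Agent.Lib.SpAmalgam

variable {F : Type*} [Field F] {n : ℕ}

/-- Column vectors. -/
abbrev Vec (F : Type*) (n : ℕ) := Fin n ⊕ Fin n → F

/-- The symplectic group. -/
abbrev Sp (F : Type*) [Field F] (n : ℕ) := ↥(Matrix.symplecticGroup (Fin n) F)

/-- The alternating form with `om e_k f_k = 1`. -/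
def om (u v : Vec F n) : F :=
  ∑ k, (u (Sum.inl k) * v (Sum.inr k) - u (Sum.inr k) * v (Sum.inl k))

@[simp] theorem om_add_left (u u' v : Vec F n) : om (u + u') v = om u v + om u' v := by
  simp only [om, ← Finset.sum_add_distrib]
  exact Finset.sum_congr rfl fun k _ => by simp only [Pi.add_apply]; ring

@[simp] theorem om_add_right (u v v' : Vec F n) : om u (v + v') = om u v + om u v' := by
  simp only [om, ← Finset.sum_add_distrib]
  exact Finset.sum_congr rfl fun k _ => by simp only [Pi.add_apply]; ring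

@[simp] theorem om_smul_left (c : F) (u v : Vec F n) : om (c • u) v = c * om u v := by
  simp only [om, Finset.mul_sum]
  exact Finset.sum_congr rfl fun k _ => by simp only [Pi.smul_apply, smul_eq_mul]; ring

@[simp] theorem om_smul_right (c : F) (u v : Vec F n) : om u (c • v) = c * om u v := by
  simp only [om, Finset.mul_sum]
  exact Finset.sum_congr rfl fun k _ => by simp only [Pi.smul_apply, smul_eq_mul]; ring

@[simp] theorem om_zero_left (v : Vec F n) : om 0 v = 0 := by simp [om]

@[simp] theorem om_zero_right (v : Vec F n) : om v 0 = 0 := by simp [om]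

@[simp] theorem om_neg_left (u v : Vec F n) : om (-u) v = - om u v := by
  rw [← neg_one_smul F u, om_smul_left]; ring

@[simp] theorem om_neg_right (u v : Vec F n) : om u (-v) = - om u v := by
  rw [← neg_one_smul F v, om_smul_right]; ring

@[simp] theorem om_sub_left (u u' v : Vec F n) : om (u - u') v = om u v - om u' v := by
  rw [sub_eq_add_neg, om_add_left, om_neg_left, sub_eq_add_neg]

@[simp] theorem om_sub_right (u v v' : Vec F n) : om u (v - v') = om u v - om u v' := by
  rw [sub_eq_add_neg, om_add_right, om_neg_right, sub_eq_add_neg]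

@[simp] theorem om_self (u : Vec F n) : om u u = 0 :=
  Finset.sum_eq_zero fun k _ => by ring

theorem om_swap (u v : Vec F n) : om v u = - om u v := by
  simp only [om, ← Finset.sum_neg_distrib]
  exact Finset.sum_congr rfl fun k _ => by ring

/-- The first half of the hyperbolic basis. -/
def E (k : Fin n) : Vec F n := Pi.single (Sum.inl k) 1

/-- The second half of the hyperbolic basis. -/
def Fb (k : Fin n) : Vec F n := Pi.single (Sum.inr k) 1

@[simp] theorem E_inl (k l : Fin n) : (E k : Vec F n) (Sum.inl l) = if l = k then 1 else 0 := by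
  simp [E, Pi.single_apply]

@[simp] theorem E_inr (k l : Fin n) : (E k : Vec F n) (Sum.inr l) = 0 := by
  simp [E]

@[simp] theorem Fb_inl (k l : Fin n) : (Fb k : Vec F n) (Sum.inl l) = 0 := by
  simp [Fb]

@[simp] theorem Fb_inr (k l : Fin n) : (Fb k : Vec F n) (Sum.inr l) = if l = k then 1 else 0 := by
  simp [Fb, Pi.single_apply]

@[simp] theorem om_E_left (k : Fin n) (v : Vec F n) : om (E k) v = v (Sum.inr k) := by
  simp [om]

@[simp] theorem om_Fb_left (k : Fin n) (v : Vec F n) : om (Fb k) v = - v (Sum.inl k) := by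
  simp [om]

@[simp] theorem om_E_right (k : Fin n) (v : Vec F n) : om v (E k) = - v (Sum.inr k) := by
  rw [om_swap, om_E_left]

@[simp] theorem om_Fb_right (k : Fin n) (v : Vec F n) : om v (Fb k) = v (Sum.inl k) := by
  rw [om_swap, om_Fb_left, neg_neg]

theorem vec_ext {u v : Vec F n} (hl : ∀ k, u (Sum.inl k) = v (Sum.inl k))
    (hr : ∀ k, u (Sum.inr k) = v (Sum.inr k)) : u = v :=
  funext fun x => by cases x <;> [exact hl _; exact hr _]

theorem dotProduct_J (u v : Vec F n) :
    dotProduct u (Matrix.mulVec (Matrix.J (Fin n) F) v) = - om u v := by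
  simp only [dotProduct, Fintype.sum_sum_type, Matrix.J, Matrix.mulVec, Matrix.fromBlocks_apply₁₁,
    Matrix.fromBlocks_apply₁₂, Matrix.fromBlocks_apply₂₁, Matrix.fromBlocks_apply₂₂,
    Matrix.zero_apply, zero_mul, Finset.sum_const_zero, add_zero, zero_add, Matrix.neg_apply,
    Matrix.one_apply, om]
  rw [← Finset.sum_neg_distrib, ← Finset.sum_add_distrib]
  refine Finset.sum_congr rfl fun k _ => ?_
  simp
  ring

/-- The action on column vectors. -/
def act (g : Sp F n) (v : Vec F n) : Vec F n := Matrix.mulVec g.1 v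

@[simp] theorem act_one (v : Vec F n) : act (1 : Sp F n) v = v := by
  simp [act]

theorem act_mul (g h : Sp F n) (v : Vec F n) : act (g * h) v = act g (act h v) := by
  simp [act, Matrix.mulVec_mulVec]

@[simp] theorem act_inv_act (g : Sp F n) (v : Vec F n) : act g⁻¹ (act g v) = v := by
  rw [← act_mul, inv_mul_cancel, act_one]

@[simp] theorem act_act_inv (g : Sp F n) (v : Vec F n) : act g (act g⁻¹ v) = v := by
  rw [← act_mul, mul_inv_cancel, act_one]

theorem act_inv_of_act {g : Sp F n} {u v : Vec F n} (h : act g u = v) : act g⁻¹ v = u := by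
  rw [← h, act_inv_act]

@[simp] theorem act_add (g : Sp F n) (u v : Vec F n) : act g (u + v) = act g u + act g v :=
  Matrix.mulVec_add _ _ _

@[simp] theorem act_smul (g : Sp F n) (c : F) (v : Vec F n) : act g (c • v) = c • act g v :=
  Matrix.mulVec_smul _ _ _

@[simp] theorem act_zero (g : Sp F n) : act g (0 : Vec F n) = 0 := Matrix.mulVec_zero _

@[simp] theorem act_neg (g : Sp F n) (v : Vec F n) : act g (-v) = - act g v := Matrix.mulVec_neg _ _

@[simp] theorem act_sub (g : Sp F n) (u v : Vec F n) : act g (u - v) = act g u - act g v :=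
  Matrix.mulVec_sub _ _ _

theorem act_sum {ι : Type*} (g : Sp F n) (s : Finset ι) (x : ι → Vec F n) :
    act g (∑ i ∈ s, x i) = ∑ i ∈ s, act g (x i) :=
  map_sum (Matrix.mulVecLin g.1) x s

theorem act_injective (g : Sp F n) : Function.Injective (act g) :=
  Function.LeftInverse.injective (act_inv_act g)

theorem act_ne_zero (g : Sp F n) {v : Vec F n} (h : v ≠ 0) : act g v ≠ 0 := fun h' =>
  h (act_injective g (h'.trans (act_zero g).symm))

@[simp] theorem om_act (g : Sp F n) (u v : Vec F n) : om (act g u) (act g v) = om u v := by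
  rw [← neg_inj, ← dotProduct_J, ← dotProduct_J, act, act, ← Matrix.vecMul_transpose,
    ← Matrix.dotProduct_mulVec, Matrix.mulVec_mulVec, Matrix.mulVec_mulVec,
    SymplecticGroup.mem_iff'.mp g.2]

theorem om_act_left (g : Sp F n) (u v : Vec F n) : om (act g u) v = om u (act g⁻¹ v) := by
  rw [← om_act g u (act g⁻¹ v), act_act_inv]

theorem sp_ext {g h : Sp F n} (hv : ∀ v, act g v = act h v) : g = h :=
  Subtype.ext (Matrix.ext_iff_mulVec.mpr hv)

theorem eq_sum_basis (v : Vec F n) :
    v = ∑ k, (v (Sum.inl k) • E k + v (Sum.inr k) • Fb k) := by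
  refine vec_ext (fun l => ?_) fun l => ?_ <;>
  simp [Finset.sum_apply, mul_ite]

theorem sp_ext_basis {g h : Sp F n} (he : ∀ k, act g (E k) = act h (E k))
    (hf : ∀ k, act g (Fb k) = act h (Fb k)) : g = h := by
  refine sp_ext fun v => ?_
  conv_lhs => rw [eq_sum_basis v]
  conv_rhs => rw [eq_sum_basis v]
  simp only [act_sum, act_add, act_smul, he, hf]

theorem mem_of_preserves (L : Vec F n →ₗ[F] Vec F n) (h : ∀ u v, om (L u) (L v) = om u v) :
    LinearMap.toMatrix' L ∈ Matrix.symplecticGroup (Fin n) F := by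
  classical
  rw [SymplecticGroup.mem_iff']
  set A := LinearMap.toMatrix' L with hA
  have key : ∀ u v : Vec F n, dotProduct u (Matrix.mulVec (A.transpose * Matrix.J (Fin n) F * A) v)
      = dotProduct u (Matrix.mulVec (Matrix.J (Fin n) F) v) := by
    intro u v
    rw [← Matrix.mulVec_mulVec, ← Matrix.mulVec_mulVec, Matrix.dotProduct_mulVec,
      Matrix.vecMul_transpose, dotProduct_J, dotProduct_J, hA, LinearMap.toMatrix'_mulVec,
      LinearMap.toMatrix'_mulVec, h]
  ext i j
  have := key (Pi.single i 1) (Pi.single j 1)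
  simpa [single_dotProduct, Matrix.mulVec_single] using this

/-- The element given by a form-preserving linear map. -/
def ofLin (L : Vec F n →ₗ[F] Vec F n) (h : ∀ u v, om (L u) (L v) = om u v) : Sp F n :=
  ⟨LinearMap.toMatrix' L, mem_of_preserves L h⟩

@[simp] theorem act_ofLin (L : Vec F n →ₗ[F] Vec F n) (h : ∀ u v, om (L u) (L v) = om u v)
    (v : Vec F n) : act (ofLin L h) v = L v :=
  LinearMap.toMatrix'_mulVec L v

/-- The linear map `v ↦ v + (om a v) u + (om u v) a`. -/
def sieg (a u : Vec F n) : Vec F n →ₗ[F] Vec F n where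
  toFun v := v + om a v • u + om u v • a
  map_add' x y := by simp only [om_add_right, add_smul]; abel
  map_smul' c x := by simp only [om_smul_right, RingHom.id_apply, smul_add, smul_smul]

open Classical in
/-- The Siegel element of a perpendicular pair (the identity for other pairs). -/
noncomputable def B (a u : Vec F n) : Sp F n :=
  if h : om a u = 0 then
    ofLin (sieg a u) (fun x y => by
      have h' : om u a = 0 := by rw [om_swap, h, neg_zero]
      simp only [sieg, LinearMap.coe_mk, AddHom.coe_mk, om_add_left, om_add_right, om_smul_left,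
        om_smul_right, om_self, h, h']
      rw [om_swap u x, om_swap a x]
      ring)
  else 1

theorem act_B {a u : Vec F n} (h : om a u = 0) (v : Vec F n) :
    act (B a u) v = v + om a v • u + om u v • a := by
  simp [B, h, sieg]

/-- The linear map `v ↦ v + c (om a v) a`. -/
def trans (a : Vec F n) (c : F) : Vec F n →ₗ[F] Vec F n where
  toFun v := v + (c * om a v) • a
  map_add' x y := by simp only [om_add_right, mul_add, add_smul]; abel
  map_smul' d x := by
    simp only [om_smul_right, RingHom.id_apply, smul_add, smul_smul]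
    congr 2; ring

/-- The transvection. -/
def T (a : Vec F n) (c : F) : Sp F n :=
  ofLin (trans a c) fun x y => by
    simp only [trans, LinearMap.coe_mk, AddHom.coe_mk, om_add_left, om_add_right, om_smul_left,
      om_smul_right, om_self]
    rw [om_swap a x]
    ring

theorem act_T (a : Vec F n) (c : F) (v : Vec F n) : act (T a c) v = v + (c * om a v) • a := by
  simp [T, trans]

@[simp] theorem T_zero (a : Vec F n) : T a (0 : F) = 1 := sp_ext fun v => by simp [act_T]

@[simp] theorem T_zero_vec (c : F) : T (0 : Vec F n) c = 1 := sp_ext fun v => by simp [act_T]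

@[simp] theorem B_zero (a : Vec F n) : B a (0 : Vec F n) = 1 :=
  sp_ext fun v => by simp [act_B]

theorem T_add (a : Vec F n) (c d : F) : T a c * T a d = T a (c + d) := by
  refine sp_ext fun v => ?_
  rw [act_mul, act_T, act_T, act_T]
  simp only [om_add_right, om_smul_right, om_self]
  module

theorem T_smul (a : Vec F n) (k c : F) : T (k • a) c = T a (k ^ 2 * c) := by
  refine sp_ext fun v => ?_
  simp only [act_T, om_smul_left]
  module

theorem conj_T (g : Sp F n) (a : Vec F n) (c : F) : g * T a c * g⁻¹ = T (act g a) c := by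
  refine sp_ext fun v => ?_
  rw [act_mul, act_mul, act_T, act_T, om_act_left, act_add, act_smul, act_act_inv]

theorem conj_B (g : Sp F n) {a u : Vec F n} (h : om a u = 0) :
    g * B a u * g⁻¹ = B (act g a) (act g u) := by
  refine sp_ext fun v => ?_
  rw [act_mul, act_mul, act_B h, act_B (by rw [om_act, h]), om_act_left, om_act_left, act_add,
    act_add, act_smul, act_smul, act_act_inv]

theorem commute_B (g : Sp F n) {a u : Vec F n} (h : om a u = 0) (ha : act g a = a)
    (hu : act g u = u) : g * B a u = B a u * g := by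
  have := conj_B g h
  rw [ha, hu] at this
  exact mul_inv_eq_iff_eq_mul.mp this

theorem commute_T (g : Sp F n) {a : Vec F n} (c : F) (ha : act g a = a) :
    g * T a c = T a c * g := by
  have := conj_T g a c
  rw [ha] at this
  exact mul_inv_eq_iff_eq_mul.mp this

theorem B_comm (a u : Vec F n) (h : om a u = 0) : B a u = B u a := by
  refine sp_ext fun v => ?_
  rw [act_B h, act_B (by rw [om_swap, h, neg_zero])]
  abel

theorem B_smul (a u : Vec F n) (h : om a u = 0) (k : F) : B (k • a) u = B a (k • u) := by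
  refine sp_ext fun v => ?_
  rw [act_B (by simp [h]), act_B (by simp [h])]
  simp only [om_smul_left]
  module

theorem B_mul {a u u' : Vec F n} (h : om a u = 0) (h' : om a u' = 0) :
    B a u * B a u' = B a (u + u') * T a (om u u') := by
  refine sp_ext fun v => ?_
  have h2 : om u a = 0 := by rw [om_swap, h, neg_zero]
  have h3 : om u' a = 0 := by rw [om_swap, h', neg_zero]
  rw [act_mul, act_mul, act_B h', act_T, act_B h, act_B (by simp [h, h'])]
  simp only [om_add_right, om_add_left, om_smul_right, om_self, h, h', h2, h3]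
  module

/-- The elements fixing the hyperbolic pairs with index satisfying `p`. -/
def fixSub (p : Fin n → Prop) : Subgroup (Sp F n) where
  carrier := {g | ∀ k, p k → act g (E k) = E k ∧ act g (Fb k) = Fb k}
  one_mem' k _ := by simp
  mul_mem' {g h} hg hh k hk := by simp [act_mul, (hg k hk).1, (hg k hk).2, (hh k hk).1, (hh k hk).2]
  inv_mem' {g} hg k hk := ⟨act_inv_of_act (hg k hk).1, act_inv_of_act (hg k hk).2⟩

theorem mem_fixSub {p : Fin n → Prop} {g : Sp F n} :
    g ∈ fixSub p ↔ ∀ k, p k → act g (E k) = E k ∧ act g (Fb k) = Fb k := Iff.rfl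

theorem fixSub_mono {p q : Fin n → Prop} (h : ∀ k, q k → p k) :
    (fixSub p : Subgroup (Sp F n)) ≤ fixSub q := fun _ hg k hk => hg k (h k hk)

/-- The elements fixing all `e_k` and the `f_k` for `k` different from `i` and `i + 1`. -/
def mSub (i : Fin n) : Subgroup (Sp F n) where
  carrier := {g | (∀ k, act g (E k) = E k) ∧
    ∀ k : Fin n, (k : ℕ) ≠ i → (k : ℕ) ≠ (i : ℕ) + 1 → act g (Fb k) = Fb k}
  one_mem' := ⟨fun k => by simp, fun k _ _ => by simp⟩
  mul_mem' {g h} hg hh := ⟨fun k => by simp [act_mul, hg.1 k, hh.1 k],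
    fun k h1 h2 => by simp [act_mul, hg.2 k h1 h2, hh.2 k h1 h2]⟩
  inv_mem' {g} hg := ⟨fun k => act_inv_of_act (hg.1 k),
    fun k h1 h2 => act_inv_of_act (hg.2 k h1 h2)⟩

theorem mem_mSub {i : Fin n} {g : Sp F n} : g ∈ mSub i ↔ (∀ k, act g (E k) = E k) ∧
    ∀ k : Fin n, (k : ℕ) ≠ i → (k : ℕ) ≠ (i : ℕ) + 1 → act g (Fb k) = Fb k := Iff.rfl

theorem coord_eq {g : Sp F n} {k : Fin n} (he : act g (E k) = E k) (hf : act g (Fb k) = Fb k)
    (v : Vec F n) :
    act g v (Sum.inl k) = v (Sum.inl k) ∧ act g v (Sum.inr k) = v (Sum.inr k) := by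
  constructor
  · rw [← om_Fb_right k (act g v)]
    conv_lhs => rw [← hf]
    rw [om_act, om_Fb_right]
  · rw [← om_E_left k (act g v)]
    conv_lhs => rw [← he]
    rw [om_act, om_E_left]

theorem act_eq_of_fixSub {p : Fin n → Prop} {g : Sp F n} (hg : g ∈ fixSub p) {v : Vec F n}
    (hv : ∀ k, ¬ p k → v (Sum.inl k) = 0 ∧ v (Sum.inr k) = 0) : act g v = v := by
  conv_lhs => rw [eq_sum_basis v]
  conv_rhs => rw [eq_sum_basis v]
  rw [act_sum]
  refine Finset.sum_congr rfl fun k _ => ?_
  by_cases hk : p k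
  · rw [act_add, act_smul, act_smul, (hg k hk).1, (hg k hk).2]
  · simp [(hv k hk).1, (hv k hk).2]

theorem coord_of_fixSub {p : Fin n → Prop} {g : Sp F n} (hg : g ∈ fixSub p) {k : Fin n}
    (hk : p k) (v : Vec F n) :
    act g v (Sum.inl k) = v (Sum.inl k) ∧ act g v (Sum.inr k) = v (Sum.inr k) :=
  coord_eq (hg k hk).1 (hg k hk).2 v

theorem commute_fixSub {p q : Fin n → Prop} (hpq : ∀ k, p k ∨ q k) {g h : Sp F n}
    (hg : g ∈ fixSub p) (hh : h ∈ fixSub q) : g * h = h * g := by
  have key : ∀ (p q : Fin n → Prop), (∀ k, p k ∨ q k) → ∀ g ∈ (fixSub p : Subgroup (Sp F n)),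
      ∀ h ∈ (fixSub q : Subgroup (Sp F n)), ∀ k, p k →
      act g (act h (E k)) = act h (act g (E k)) ∧ act g (act h (Fb k)) = act h (act g (Fb k)) := by
    intro p q hpq g hg h hh k hk
    rw [(hg k hk).1, (hg k hk).2]
    by_cases hq : q k
    · rw [(hh k hq).1, (hh k hq).2]
      exact hg k hk
    · constructor <;>
      · refine act_eq_of_fixSub hg fun l hl => ?_
        have hql : q l := (hpq l).resolve_left hl
        have hlk : l ≠ k := fun e => hl (e ▸ hk)
        rw [(coord_of_fixSub hh hql _).1, (coord_of_fixSub hh hql _).2]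
        simp [hlk]
  refine sp_ext_basis (fun k => ?_) fun k => ?_ <;> rw [act_mul, act_mul] <;>
    rcases hpq k with hk | hk
  · exact (key p q hpq g hg h hh k hk).1
  · exact (key q p (fun l => (hpq l).symm) h hh g hg k hk).1.symm
  · exact (key p q hpq g hg h hh k hk).2
  · exact (key q p (fun l => (hpq l).symm) h hh g hg k hk).2.symm

theorem B_mem_fixSub {p : Fin n → Prop} {a u : Vec F n} (h : om a u = 0)
    (ha : ∀ k, p k → a (Sum.inl k) = 0 ∧ a (Sum.inr k) = 0)
    (hu : ∀ k, p k → u (Sum.inl k) = 0 ∧ u (Sum.inr k) = 0) : B a u ∈ fixSub p := fun k hk => by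
  simp [act_B h, (ha k hk).1, (ha k hk).2, (hu k hk).1, (hu k hk).2]

theorem T_mem_fixSub {p : Fin n → Prop} {a : Vec F n} (c : F)
    (ha : ∀ k, p k → a (Sum.inl k) = 0 ∧ a (Sum.inr k) = 0) : T a c ∈ fixSub p := fun k hk => by
  simp [act_T, (ha k hk).1, (ha k hk).2]

theorem B_mem_mSub {i : Fin n} {a u : Vec F n} (h : om a u = 0)
    (ha : ∀ k, a (Sum.inr k) = 0) (hu : ∀ k, u (Sum.inr k) = 0)
    (ha' : ∀ k : Fin n, (k : ℕ) ≠ i → (k : ℕ) ≠ (i : ℕ) + 1 → a (Sum.inl k) = 0)
    (hu' : ∀ k : Fin n, (k : ℕ) ≠ i → (k : ℕ) ≠ (i : ℕ) + 1 → u (Sum.inl k) = 0) :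
    B a u ∈ mSub i :=
  ⟨fun k => by simp [act_B h, ha k, hu k], fun k h1 h2 => by simp [act_B h, ha' k h1 h2, hu' k h1 h2]⟩

theorem T_mem_mSub {i : Fin n} {a : Vec F n} (c : F) (ha : ∀ k, a (Sum.inr k) = 0)
    (ha' : ∀ k : Fin n, (k : ℕ) ≠ i → (k : ℕ) ≠ (i : ℕ) + 1 → a (Sum.inl k) = 0) :
    T a c ∈ mSub i :=
  ⟨fun k => by simp [act_T, ha k], fun k h1 h2 => by simp [act_T, ha' k h1 h2]⟩

/-- The linear map acting on the plane of index `k` by the matrix `(a c; b d)`. -/
def planeMap (k : Fin n) (a b c d : F) : Vec F n →ₗ[F] Vec F n where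
  toFun v := v + ((a - 1) * v (Sum.inl k) + c * v (Sum.inr k)) • E k +
    (b * v (Sum.inl k) + (d - 1) * v (Sum.inr k)) • Fb k
  map_add' x y := by simp only [Pi.add_apply]; module
  map_smul' r x := by simp only [Pi.smul_apply, smul_eq_mul, RingHom.id_apply]; module

/-- The element acting on the plane of index `k` by `(a c; b d)`. -/
def sl (k : Fin n) (a b c d : F) (h : a * d - b * c = 1) : Sp F n :=
  ofLin (planeMap k a b c d) fun x y => by
    simp only [planeMap, LinearMap.coe_mk, AddHom.coe_mk, om_add_left, om_add_right, om_smul_left,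
      om_smul_right, om_E_left, om_E_right, om_Fb_left, om_Fb_right, E_inl, E_inr, Fb_inl, Fb_inr,
      if_true, Pi.add_apply, Pi.smul_apply, smul_eq_mul]
    linear_combination (x (Sum.inl k) * y (Sum.inr k) - x (Sum.inr k) * y (Sum.inl k)) * h

theorem sl_mem (k : Fin n) (a b c d : F) (h : a * d - b * c = 1) :
    sl k a b c d h ∈ fixSub (fun l => l ≠ k) := fun l hl => by
  simp [sl, planeMap, hl.symm]

@[simp] theorem sl_E (k : Fin n) (a b c d : F) (h : a * d - b * c = 1) :
    act (sl k a b c d h) (E k) = a • E k + b • Fb k := by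
  simp [sl, planeMap]
  module

@[simp] theorem sl_Fb (k : Fin n) (a b c d : F) (h : a * d - b * c = 1) :
    act (sl k a b c d h) (Fb k) = c • E k + d • Fb k := by
  simp [sl, planeMap]
  module

/-- The plane of index `k` is moved transitively. -/
theorem exists_sl (k : Fin n) (a b : F) (h : a ≠ 0 ∨ b ≠ 0) :
    ∃ s ∈ (fixSub (fun l => l ≠ k) : Subgroup (Sp F n)), act s (E k) = a • E k + b • Fb k := by
  by_cases ha : a = 0
  · have hb : b ≠ 0 := h.resolve_left (fun h => h ha)
    exact ⟨sl k a b (-b⁻¹) 0 (by simp [hb]), sl_mem _ _ _ _ _ _, sl_E ..⟩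
  · exact ⟨sl k a b 0 a⁻¹ (by simp [ha]), sl_mem _ _ _ _ _ _, sl_E ..⟩

end Cfsg.Agent.Lib.SpAmalgam
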