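import Cfsg.Agent.Lib.SpAmalgam.Heisenberg

/-!
Inductive step, second half: the cosets of the lifted stabiliser are permuted like the nonzero
vectors, so the group generated by the lifts projects isomorphically onto `Gm m`.
-/

set_option autoImplicit false

namespace Cfsg.Agent.Lib.SpAmalgam

variable {F : Type*} [Field F] {n : ℕ} {H : Type*} [Group H]

namespace Ctx

variable (C : Ctx F n H)

/-- The element `e_m ↦ -f_m ↦ -e_m`. -/
noncomputable def W : Sp F n := sl C.m 0 (-1) 1 0 (by simp)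

/-- The element `e_m ↦ e_m + f_m`, fixing `f_m`. -/
noncomputable def L : Sp F n := sl C.m 1 1 0 1 (by simp)

theorem W_mem : C.W ∈ sSub C.m := sl_mem _ _ _ _ _ _

theorem L_mem : C.L ∈ sSub C.m := sl_mem _ _ _ _ _ _

theorem W_e : act C.W (E C.m) = - Fb C.m := by simp [W]

theorem W_f : act C.W (Fb C.m) = E C.m := by simp [W]

theorem W_inv_e : act C.W⁻¹ (E C.m) = Fb C.m := act_inv_of_act C.W_f

theorem L_e : act C.L (E C.m) = E C.m + Fb C.m := by simp [L]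

theorem sg_inv {s : Sp F n} (hs : s ∈ sSub C.m) : C.A.sg C.m s⁻¹ = (C.A.sg C.m s)⁻¹ :=
  (C.A.sg_hom C.m).inv hs

theorem sg_mul {s t : Sp F n} (hs : s ∈ sSub C.m) (ht : t ∈ sSub C.m) :
    C.A.sg C.m (s * t) = C.A.sg C.m s * C.A.sg C.m t :=
  C.A.sg_hom C.m s hs t ht

theorem π_sg {s : Sp F n} (hs : s ∈ sSub C.m) : C.A.π (C.A.sg C.m s) = s := C.A.π_sg _ _ hs

/-- The plane part of a vector. -/
def pl (v : Vec F n) : Vec F n := v (Sum.inl C.m) • E C.m + v (Sum.inr C.m) • Fb C.m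

theorem pr_add_pl (v : Vec F n) : pr C.m v + C.pl v = v := pr_add_plane C.m v

/-- Vectors with nonzero plane part. -/
def Off (v : Vec F n) : Prop := v (Sum.inl C.m) ≠ 0 ∨ v (Sum.inr C.m) ≠ 0

theorem supp_pr' {v : Vec F n} (hv : Supp (C.m : ℕ) v) : Supp ((C.m : ℕ) + 1) (pr C.m v) :=
  supp_pr rfl hv

theorem coords {u : Vec F n} (hu : Supp ((C.m : ℕ) + 1) u) (a b : F) :
    (u + (a • E C.m + b • Fb C.m) : Vec F n) (Sum.inl C.m) = a ∧
    (u + (a • E C.m + b • Fb C.m) : Vec F n) (Sum.inr C.m) = b ∧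
    pr C.m (u + (a • E C.m + b • Fb C.m)) = u := by
  have h := hu C.m (Nat.lt_succ_self _)
  refine ⟨by simp [h.1], by simp [h.2], ?_⟩
  simp only [pr, Pi.add_apply, Pi.smul_apply, smul_eq_mul, E_inl, E_inr, Fb_inl, Fb_inr, h.1, h.2,
    if_true]
  module

theorem act_s_plane {s : Sp F n} (hs : s ∈ sSub C.m) (a b : F) :
    act s (a • E C.m + b • Fb C.m) =
      act s (a • E C.m + b • Fb C.m) (Sum.inl C.m) • E C.m +
      act s (a • E C.m + b • Fb C.m) (Sum.inr C.m) • Fb C.m := by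
  refine vec_ext (fun l => ?_) fun l => ?_ <;> rcases eq_or_ne l C.m with h | h
  · subst h; simp
  · rw [(coord_of_fixSub hs h _).1]; simp [h]
  · subst h; simp
  · rw [(coord_of_fixSub hs h _).2]; simp [h]

theorem s_data {s : Sp F n} (hs : s ∈ sSub C.m) {v : Vec F n} (hv : Supp (C.m : ℕ) v) :
    pr C.m (act s v) = pr C.m v ∧ C.pl (act s v) = act s (C.pl v) := by
  have e : act s v = pr C.m v + act s (C.pl v) := by
    conv_lhs => rw [← C.pr_add_pl v]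
    rw [act_add, C.act_s hs (C.supp_pr' hv)]
  rw [e]
  obtain ⟨a, b, hab⟩ : ∃ a b : F, act s (C.pl v) = a • E C.m + b • Fb C.m :=
    ⟨_, _, C.act_s_plane hs _ _⟩
  rw [hab]
  obtain ⟨h1, h2, h3⟩ := C.coords (C.supp_pr' hv) a b
  refine ⟨h3, ?_⟩
  rw [pl, h1, h2]

theorem off_iff {v : Vec F n} : C.Off v ↔ C.pl v ≠ 0 := by
  constructor
  · rintro h h0
    have h1 := congrFun h0 (Sum.inl C.m)
    have h2 := congrFun h0 (Sum.inr C.m)
    simp [pl] at h1 h2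
    exact h.elim (fun h => h h1) (fun h => h h2)
  · intro h
    by_contra h'
    rw [Off] at h'
    push Not at h'
    exact h (by simp [pl, h'.1, h'.2])

theorem off_act_s {s : Sp F n} (hs : s ∈ sSub C.m) {v : Vec F n} (hv : Supp (C.m : ℕ) v)
    (h : C.Off v) : C.Off (act s v) := by
  rw [off_iff, (C.s_data hs hv).2]
  exact act_ne_zero s (C.off_iff.mp h)

theorem supp_act_s {s : Sp F n} (hs : s ∈ sSub C.m) {v : Vec F n} (hv : Supp (C.m : ℕ) v) :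
    Supp (C.m : ℕ) (act s v) := hv.act (sSub_le_gm le_rfl hs)

theorem g_data {g : Sp F n} (hg : g ∈ Gm ((C.m : ℕ) + 1)) (v : Vec F n) :
    act g v (Sum.inl C.m) = v (Sum.inl C.m) ∧ act g v (Sum.inr C.m) = v (Sum.inr C.m) ∧
    pr C.m (act g v) = act g (pr C.m v) := by
  have h := coord_of_fixSub hg (k := C.m) (Nat.lt_succ_self _) v
  refine ⟨h.1, h.2, ?_⟩
  rw [pr, pr, act_sub, act_sub, act_smul, act_smul, C.act_e hg, C.act_f hg, h.1, h.2]

theorem om_pr {z : Vec F n} (hz : Supp ((C.m : ℕ) + 1) z) (v : Vec F n) :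
    om z (pr C.m v) = om z v := by
  have h := hz C.m (Nat.lt_succ_self _)
  simp [pr, h.1, h.2]

theorem B_data {z : Vec F n} (hz : Supp ((C.m : ℕ) + 1) z) (v : Vec F n) :
    act (B (E C.m) z) v (Sum.inl C.m) = v (Sum.inl C.m) + om z v ∧
    act (B (E C.m) z) v (Sum.inr C.m) = v (Sum.inr C.m) ∧
    pr C.m (act (B (E C.m) z) v) = pr C.m v + v (Sum.inr C.m) • z := by
  have h := hz C.m (Nat.lt_succ_self _)
  rw [act_B (C.om_e_of_supp hz)]
  refine ⟨by simp [h.1], by simp [h.2], ?_⟩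
  simp only [pr, om_E_left, Pi.add_apply, Pi.smul_apply, smul_eq_mul, E_inl, E_inr, h.1, h.2, if_true]
  module

theorem eq_T_of_fix {s : Sp F n} (hs : s ∈ sSub C.m) (he : act s (E C.m) = E C.m) :
    ∃ c : F, s = T (E C.m) c := by
  refine ⟨act s (Fb C.m) (Sum.inl C.m), sp_ext_basis (fun k => ?_) fun k => ?_⟩ <;>
    rcases eq_or_ne k C.m with h | h
  · subst h; rw [he, act_T]; simp
  · rw [(hs k h).1, (C.T_mem_s _ k h).1]
  · subst h
    rw [act_T]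
    refine vec_ext (fun l => ?_) fun l => ?_ <;> rcases eq_or_ne l C.m with h | h
    · subst h; simp
    · rw [(coord_of_fixSub hs h _).1]; simp [h]
    · subst h
      rw [← om_E_left C.m (act s (Fb C.m))]
      conv_lhs => rw [← he]
      simp
    · rw [(coord_of_fixSub hs h _).2]; simp [h]
  · rw [(hs k h).2, (C.T_mem_s _ k h).2]

theorem W_x1_W (a : F) : C.W * B (E C.m) (a • E C.m1) * C.W⁻¹ = B (-Fb C.m) (a • E C.m1) := by
  rw [conj_B C.W (by simp), C.W_e, act_smul, C.act_s C.W_mem C.supp_e1]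

theorem tau_conj_mem (c : F) {u : Vec F n} (hu : Supp ((C.m : ℕ) + 1) u) :
    (C.A.sg C.m C.W * C.bta u * (C.A.sg C.m C.W)⁻¹)⁻¹ * C.tau c *
      (C.A.sg C.m C.W * C.bta u * (C.A.sg C.m C.W)⁻¹) ∈ C.K := by
  rcases eq_or_ne u 0 with rfl | hu0
  · simpa [C.bta_zero] using C.tau_mem_K c
  obtain ⟨g, hg, hgu⟩ := C.exists_g1 hu hu0
  have hw : Commute (C.A.sg C.m C.W) (C.ψ g) := C.sg_comm_ψ C.W_mem hg
  have ht : Commute (C.tau c) (C.ψ g) := C.sg_comm_ψ (C.T_mem_s c) hg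
  rw [C.bta_eq hg hgu]
  have key : (C.A.sg C.m C.W * C.A.mu C.m C.x1 * (C.A.sg C.m C.W)⁻¹)⁻¹ * C.tau c *
      (C.A.sg C.m C.W * C.A.mu C.m C.x1 * (C.A.sg C.m C.W)⁻¹) ∈ C.K := by
    obtain ⟨Ψ, hΨ, hA, hB⟩ := C.A.ms C.m C.m C.m_lt
    have hW := Subgroup.mem_sup_right (S := mSub C.m) C.W_mem
    have hx := Subgroup.mem_sup_left (T := sSub C.m) C.x1_mem
    have hT := Subgroup.mem_sup_left (T := sSub C.m) (C.T_mem_m c)
    have hy : C.W * C.x1 * C.W⁻¹ ∈ mSub C.m ⊔ sSub C.m :=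
      mul_mem (mul_mem hW hx) (inv_mem hW)
    have e : Ψ ((C.W * C.x1 * C.W⁻¹)⁻¹ * T (E C.m) c * (C.W * C.x1 * C.W⁻¹)) =
        (C.A.sg C.m C.W * C.A.mu C.m C.x1 * (C.A.sg C.m C.W)⁻¹)⁻¹ * C.tau c *
          (C.A.sg C.m C.W * C.A.mu C.m C.x1 * (C.A.sg C.m C.W)⁻¹) := by
      rw [hΨ _ (mul_mem (inv_mem hy) hT) _ hy, hΨ _ (inv_mem hy) _ hT, hΨ.inv hy, hΨ.conj hW hx,
        hA _ C.x1_mem, hB _ C.W_mem, hA _ (C.T_mem_m c), ← C.tau_eq_mu]
    have hWx : C.W * C.x1 * C.W⁻¹ = B (-Fb C.m) (E C.m1) := by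
      simpa [x1] using C.W_x1_W 1
    have hy' : (C.W * C.x1 * C.W⁻¹)⁻¹ * T (E C.m) c * (C.W * C.x1 * C.W⁻¹) ∈ mSub C.m := by
      have h0 : om (-Fb C.m) (E C.m1 : Vec F n) = 0 := by simp [C.m_ne, C.m_ne.symm]
      rw [hWx]
      have fixes : ∀ v : Vec F n, act (T (E C.m) c) (act (B (-Fb C.m) (E C.m1)) v)
          = act (B (-Fb C.m) (E C.m1)) v →
          act ((B (-Fb C.m) (E C.m1))⁻¹ * T (E C.m) c * B (-Fb C.m) (E C.m1)) v = v := by
        intro v h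
        rw [act_mul, act_mul, h, act_inv_act]
      refine ⟨fun k => fixes _ ?_, fun k h1 h2 => fixes _ ?_⟩
      · rw [act_T, act_B h0]
        rcases eq_or_ne k C.m with rfl | h <;> simp [C.m_ne, C.m_ne.symm, *]
      · have hk : k ≠ C.m := fun e => h1 (by rw [e])
        have hk' : k ≠ C.m1 := fun e => h2 (by rw [e, C.hm])
        rw [act_T, act_B h0]; simp [hk, hk', Ne.symm hk, Ne.symm hk']
    rw [← e, hA _ hy']
    exact C.mu_mem_K hy'
  have hconj := C.K.mul_mem (C.K.mul_mem (C.ψ_mem_K hg) key) (C.K.inv_mem (C.ψ_mem_K hg))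
  convert hconj using 1
  generalize C.A.sg C.m C.W = w at hw key ⊢
  generalize C.tau c = t at ht key ⊢
  generalize C.ψ g = p at hw ht key ⊢
  generalize C.A.mu C.m C.x1 = x
  have h1 : w * (p * x * p⁻¹) * w⁻¹ = p * (w * x * w⁻¹) * p⁻¹ := by
    calc w * (p * x * p⁻¹) * w⁻¹ = (w * p) * x * (p⁻¹ * w⁻¹) := by group
      _ = p * (w * x * w⁻¹) * p⁻¹ := by rw [hw.eq, (hw.inv_inv).eq.symm]; group
  rw [h1]
  generalize w * x * w⁻¹ = y
  calc (p * y * p⁻¹)⁻¹ * t * (p * y * p⁻¹) = p * y⁻¹ * (p⁻¹ * (t * p)) * y * p⁻¹ := by group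
    _ = p * (y⁻¹ * t * y) * p⁻¹ := by rw [ht.eq]; group

open Classical in
/-- A representative for a vector with nonzero plane part. -/
noncomputable def rep1 (v : Vec F n) : H :=
  if h : ∃ s ∈ sSub C.m, act s (E C.m) = C.pl v then
    C.A.sg C.m (h.choose * C.W) * C.bta (pr C.m v) * C.A.sg C.m C.W⁻¹
  else 1

open Classical in
/-- A representative of the coset attached to a vector. -/
noncomputable def rep (v : Vec F n) : H :=
  if C.Off v then C.rep1 v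
  else if h : ∃ z, Supp ((C.m : ℕ) + 1) z ∧ om z v ≠ 0 then
    C.bta h.choose * C.rep1 (act (B (E C.m) (-h.choose)) v)
  else 1

/-- The coset attached to a vector. -/
noncomputable def cls (v : Vec F n) : H ⧸ C.K := (C.rep v : H ⧸ C.K)

theorem exists_s {v : Vec F n} (h : C.Off v) : ∃ s ∈ sSub C.m, act s (E C.m) = C.pl v :=
  exists_sl C.m _ _ h

theorem cls_eq {v : Vec F n} (hv : Supp (C.m : ℕ) v) (h : C.Off v) {s : Sp F n}
    (hs : s ∈ sSub C.m) (hse : act s (E C.m) = C.pl v) :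
    C.cls v = (↑(C.A.sg C.m (s * C.W) * C.bta (pr C.m v) * C.A.sg C.m C.W⁻¹) : H ⧸ C.K) := by
  rw [cls, rep, if_pos h, rep1, dif_pos (C.exists_s h)]
  obtain ⟨ht, hte⟩ := (C.exists_s h).choose_spec
  generalize (C.exists_s h).choose = t at ht hte ⊢
  obtain ⟨c, hc⟩ := C.eq_T_of_fix (mul_mem (inv_mem hs) ht)
    (by rw [act_mul, hte, act_inv_of_act hse])
  have et : t = s * T (E C.m) c := by rw [← hc, mul_inv_cancel_left]
  rw [eq_comm, QuotientGroup.eq, et, C.sg_mul (mul_mem hs (C.T_mem_s c)) C.W_mem,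
    C.sg_mul hs (C.T_mem_s c), C.sg_mul hs C.W_mem, C.sg_inv C.W_mem]
  have := C.tau_conj_mem c (C.supp_pr' hv)
  convert this using 1
  rw [tau]
  group

/-- The coset of a vector is moved by `h` like the vector by `π h`. -/
def Eqv (h : H) (v : Vec F n) : Prop := h • C.cls v = C.cls (act (C.A.π h) v)

theorem eqv_one (v : Vec F n) : C.Eqv 1 v := by rw [Eqv, one_smul, map_one, act_one]

theorem eqv_mul {h k : H} {v : Vec F n} (h1 : C.Eqv k v) (h2 : C.Eqv h (act (C.A.π k) v)) :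
    C.Eqv (h * k) v := by
  rw [Eqv, mul_smul, h1, h2, map_mul, act_mul]

theorem eqv_inv {h : H} {v : Vec F n} (h1 : C.Eqv h (act (C.A.π h⁻¹) v)) : C.Eqv h⁻¹ v := by
  rw [Eqv, inv_smul_eq_iff, h1, map_inv, act_act_inv]

theorem sg_eqv_off {s : Sp F n} (hs : s ∈ sSub C.m) {v : Vec F n} (hv : Supp (C.m : ℕ) v)
    (h : C.Off v) : C.Eqv (C.A.sg C.m s) v := by
  obtain ⟨t, ht, hte⟩ := C.exists_s h
  rw [Eqv, C.π_sg hs, C.cls_eq hv h ht hte,
    C.cls_eq (C.supp_act_s hs hv) (C.off_act_s hs hv h) (mul_mem hs ht)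
      (by rw [act_mul, hte, (C.s_data hs hv).2]),
    (C.s_data hs hv).1, MulAction.Quotient.smul_coe, smul_eq_mul, mul_assoc s t C.W,
    C.sg_mul hs (mul_mem ht C.W_mem)]
  simp only [mul_assoc]

theorem ψ_eqv_off {g : Sp F n} (hg : g ∈ Gm ((C.m : ℕ) + 1)) {v : Vec F n}
    (hv : Supp (C.m : ℕ) v) (h : C.Off v) : C.Eqv (C.ψ g) v := by
  obtain ⟨t, ht, hte⟩ := C.exists_s h
  obtain ⟨d1, d2, d3⟩ := C.g_data hg v
  have hpl : C.pl (act g v) = C.pl v := by rw [pl, pl, d1, d2]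
  have hoff : C.Off (act g v) := by rw [off_iff, hpl]; exact C.off_iff.mp h
  rw [Eqv, C.hψ.π_eq g hg, C.cls_eq hv h ht hte,
    C.cls_eq (hv.act (gm_mono (Nat.le_succ _) hg)) hoff ht (hte.trans hpl.symm), d3,
    MulAction.Quotient.smul_coe, smul_eq_mul, QuotientGroup.eq]
  have f1 : Commute (C.A.sg C.m (t * C.W)) (C.ψ g) := C.sg_comm_ψ (mul_mem ht C.W_mem) hg
  have f2 := C.ψ_mul_bta (C.supp_pr' hv) hg
  have f3 : Commute (C.A.sg C.m C.W⁻¹) (C.ψ g) := C.sg_comm_ψ (inv_mem C.W_mem) hg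
  have e : C.ψ g * (C.A.sg C.m (t * C.W) * C.bta (pr C.m v) * C.A.sg C.m C.W⁻¹) =
      C.A.sg C.m (t * C.W) * C.bta (act g (pr C.m v)) * C.A.sg C.m C.W⁻¹ * C.ψ g := by
    calc C.ψ g * (C.A.sg C.m (t * C.W) * C.bta (pr C.m v) * C.A.sg C.m C.W⁻¹)
        = (C.ψ g * C.A.sg C.m (t * C.W)) * C.bta (pr C.m v) * C.A.sg C.m C.W⁻¹ := by group
      _ = C.A.sg C.m (t * C.W) * (C.ψ g * C.bta (pr C.m v)) * C.A.sg C.m C.W⁻¹ := by
          rw [← f1.eq]; group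
      _ = C.A.sg C.m (t * C.W) * C.bta (act g (pr C.m v)) * (C.ψ g * C.A.sg C.m C.W⁻¹) := by
          rw [f2]; group
      _ = _ := by rw [← f3.eq]; group
  rw [e, mul_inv_rev, mul_assoc, inv_mul_cancel, mul_one]
  exact C.K.inv_mem (C.ψ_mem_K hg)

theorem sg_conj_bta {d : Sp F n} (hd : d ∈ sSub C.m) {a : F} (hde : act d (E C.m) = a • E C.m)
    {u : Vec F n} (hu : Supp ((C.m : ℕ) + 1) u) :
    C.A.sg C.m d * C.bta u * (C.A.sg C.m d)⁻¹ = C.bta (a • u) := by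
  rcases eq_or_ne u 0 with rfl | hu0
  · rw [smul_zero, C.bta_zero]; group
  obtain ⟨g, hg, hgu⟩ := C.exists_g1 hu hu0
  have h1 : C.A.sg C.m d * C.A.mu C.m C.x1 * (C.A.sg C.m d)⁻¹ = C.bta (a • E C.m1) := by
    obtain ⟨Ψ, hΨ, hA, hB⟩ := C.A.ms C.m C.m C.m_lt
    rw [C.bta_smul_e1, ← hA _ C.x1_mem, ← hB _ hd, ← hA _ (C.B_mem_m a),
      ← hΨ.conj (Subgroup.mem_sup_right hd) (Subgroup.mem_sup_left C.x1_mem), x1,
      conj_B d (by simp), hde, C.act_s hd C.supp_e1, B_smul _ _ (by simp)]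
  have hc : Commute (C.A.sg C.m d) (C.ψ g) := C.sg_comm_ψ hd hg
  rw [C.bta_eq hg hgu, show a • u = act g (a • E C.m1) by rw [act_smul, hgu],
    ← C.bta_conj (C.supp_e1.smul a) hg, ← h1]
  calc C.A.sg C.m d * (C.ψ g * C.A.mu C.m C.x1 * (C.ψ g)⁻¹) * (C.A.sg C.m d)⁻¹
      = (C.A.sg C.m d * C.ψ g) * C.A.mu C.m C.x1 * ((C.ψ g)⁻¹ * (C.A.sg C.m d)⁻¹) := by group
    _ = _ := by rw [hc.eq, hc.inv_inv.eq.symm]; group

theorem cls_of_r {v : Vec F n} (hv : Supp (C.m : ℕ) v) {r : F} (hr : v (Sum.inr C.m) = r)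
    (hr0 : r ≠ 0) :
    C.cls v = (↑(C.tau (v (Sum.inl C.m) / r) * C.bta (r⁻¹ • pr C.m v) *
      C.A.sg C.m (sl C.m 0 r (-r⁻¹) 0 (by field_simp; ring))) : H ⧸ C.K) := by
  set Wb := sl C.m 0 r (-r⁻¹) 0 (by field_simp; ring) with hWb
  have hWm : Wb ∈ sSub C.m := sl_mem _ _ _ _ _ _
  set k := v (Sum.inl C.m) / r with hk
  have hs : act (T (E C.m) k * Wb) (E C.m) = C.pl v := by
    rw [act_mul, hWb, sl_E, pl, hr, hk, act_T]
    simp only [om_add_right, om_smul_right, om_self, om_E_left, Fb_inr, if_true, zero_smul,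
      zero_add, mul_zero, mul_one, add_zero]
    rw [div_mul_cancel₀ _ hr0]
    abel
  have hde : act (Wb * C.W) (E C.m) = r⁻¹ • E C.m := by
    rw [act_mul, C.W_e, act_neg, hWb, sl_Fb]
    simp
  have hd := C.sg_conj_bta (mul_mem hWm C.W_mem) hde (C.supp_pr' hv)
  rw [C.cls_eq hv (Or.inr (hr ▸ hr0)) (mul_mem (C.T_mem_s k) hWm) hs, mul_assoc _ Wb C.W,
    C.sg_mul (C.T_mem_s k) (mul_mem hWm C.W_mem), ← hd, tau, C.sg_mul hWm C.W_mem,
    C.sg_inv C.W_mem]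
  congr 1
  group

theorem bta_eqv_r {z v : Vec F n} (hz : Supp ((C.m : ℕ) + 1) z) (hv : Supp (C.m : ℕ) v)
    (hr0 : v (Sum.inr C.m) ≠ 0) : C.Eqv (C.bta z) v := by
  obtain ⟨d1, d2, d3⟩ := C.B_data hz v
  have hv' : Supp (C.m : ℕ) (act (B (E C.m) z) v) := hv.act (C.B_mem_stab hz).1
  rw [Eqv, C.π_bta hz, C.cls_of_r hv rfl hr0, C.cls_of_r hv' d2 hr0, d1, d3,
    MulAction.Quotient.smul_coe, smul_eq_mul]
  congr 1
  set r := v (Sum.inr C.m) with hr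
  set u := pr C.m v with hu
  have hus : Supp ((C.m : ℕ) + 1) (r⁻¹ • u) := (C.supp_pr' hv).smul _
  have e1 : r⁻¹ • (u + r • z) = z + r⁻¹ • u := by
    rw [smul_add, smul_smul, inv_mul_cancel₀ hr0, one_smul, add_comm]
  have e2 : (v (Sum.inl C.m) + om z v) / r = om z (r⁻¹ • u) + v (Sum.inl C.m) / r := by
    rw [om_smul_right, hu, C.om_pr hz]; ring
  rw [e1, e2, ← C.tau_add]
  generalize C.A.sg C.m (sl C.m 0 r (-r⁻¹) 0 _) = w
  have f1 := (C.tau_comm_bta (v (Sum.inl C.m) / r) hz).eq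
  have f2 := (C.tau_comm_bta (v (Sum.inl C.m) / r) (hz.add hus)).eq
  have f3 := (C.tau_comm_bta (om z (r⁻¹ • u)) (hz.add hus)).eq
  calc C.bta z * (C.tau (v (Sum.inl C.m) / r) * C.bta (r⁻¹ • u) * w)
      = (C.bta z * C.tau (v (Sum.inl C.m) / r)) * C.bta (r⁻¹ • u) * w := by group
    _ = C.tau (v (Sum.inl C.m) / r) * (C.bta z * C.bta (r⁻¹ • u)) * w := by rw [← f1]; group
    _ = (C.tau (v (Sum.inl C.m) / r) * C.bta (z + r⁻¹ • u)) * C.tau (om z (r⁻¹ • u)) * w := by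
        rw [C.bta_add hz hus]; group
    _ = C.bta (z + r⁻¹ • u) * (C.tau (v (Sum.inl C.m) / r) * C.tau (om z (r⁻¹ • u))) * w := by
        rw [f2]; group
    _ = (C.tau (om z (r⁻¹ • u)) * C.bta (z + r⁻¹ • u)) * C.tau (v (Sum.inl C.m) / r) * w := by
        rw [C.tau_add, add_comm (v (Sum.inl C.m) / r), ← C.tau_add, f3]; group
    _ = _ := by rw [mul_assoc (C.tau (om z (r⁻¹ • u))), ← f2]; group

/-- The lift of `B f_m x`. -/
noncomputable def btap (x : Vec F n) : H :=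
  C.A.sg C.m C.W⁻¹ * C.bta x * C.A.sg C.m C.W

theorem π_btap {x : Vec F n} (hx : Supp ((C.m : ℕ) + 1) x) : C.A.π (C.btap x) = B (Fb C.m) x := by
  rw [btap, map_mul, map_mul, C.π_sg (inv_mem C.W_mem), C.π_bta hx, C.π_sg C.W_mem]
  have := conj_B C.W⁻¹ (C.om_e_of_supp hx)
  rwa [inv_inv, C.W_inv_e, C.act_s (inv_mem C.W_mem) hx] at this

theorem btap_eqv {x v : Vec F n} (hx : Supp ((C.m : ℕ) + 1) x) (hv : Supp (C.m : ℕ) v)
    (hl : v (Sum.inl C.m) ≠ 0) :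
    C.Eqv (C.btap x) v ∧ act (B (Fb C.m) x) v (Sum.inl C.m) = v (Sum.inl C.m) := by
  have hw : Supp (C.m : ℕ) (act C.W v) := C.supp_act_s C.W_mem hv
  have hr : act C.W v (Sum.inr C.m) = - v (Sum.inl C.m) := by
    rw [← om_E_left C.m (act C.W v)]
    conv_lhs => rw [← C.W_f]
    rw [om_act, om_Fb_left]
  obtain ⟨-, d2, -⟩ := C.B_data hx (act C.W v)
  refine ⟨?_, ?_⟩
  · refine C.eqv_mul (C.sg_eqv_off C.W_mem hv (Or.inl hl)) ?_
    rw [C.π_sg C.W_mem]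
    refine C.eqv_mul (C.bta_eqv_r hx hw (hr ▸ neg_ne_zero.mpr hl)) ?_
    rw [C.π_bta hx]
    exact C.sg_eqv_off (inv_mem C.W_mem) (hw.act (C.B_mem_stab hx).1)
      (Or.inr (by rw [d2, hr]; exact neg_ne_zero.mpr hl))
  · have h := hx C.m (Nat.lt_succ_self _)
    have h0 : om (Fb C.m) x = 0 := by simp [h.1]
    rw [act_B h0]; simp [h.1]

theorem sg_bta {s : Sp F n} (hs : s ∈ sSub C.m) {a b : F}
    (hse : act s (E C.m) = a • E C.m + b • Fb C.m) {z : Vec F n}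
    (hz : Supp ((C.m : ℕ) + 1) z) :
    C.A.sg C.m s * C.bta z * (C.A.sg C.m s)⁻¹ =
      C.bta (a • z) * C.btap (b • z) * C.ψ (T z (-(a * b))) := by
  rcases eq_or_ne z 0 with rfl | hz0
  · simp [btap, C.bta_zero, C.hψ.hom.one, C.sg_inv C.W_mem]
  obtain ⟨g, hg, hgz⟩ := C.exists_g1 hz hz0
  obtain ⟨Ψ, hΨ, hA, hB⟩ := C.A.ms C.m C.m C.m_lt
  have hR1 : ∀ {x : Sp F n}, x ∈ mSub C.m → x ∈ mSub C.m ⊔ sSub C.m := fun h =>
    Subgroup.mem_sup_left h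
  have hR2 : ∀ {x : Sp F n}, x ∈ sSub C.m → x ∈ mSub C.m ⊔ sSub C.m := fun h =>
    Subgroup.mem_sup_right h
  have hT1 : T (E C.m1) (-(a * b)) ∈ Gm ((C.m : ℕ) + 1) := T_mem_gm _ C.supp_e1
  have grp : s * C.x1 * s⁻¹ = B (E C.m) (a • E C.m1) *
      (C.W⁻¹ * B (E C.m) (b • E C.m1) * C.W) * T (E C.m1) (-(a * b)) := by
    have hW' := conj_B C.W⁻¹ (a := E C.m) (u := b • E C.m1) (by simp)
    rw [inv_inv, C.W_inv_e, C.act_s (inv_mem C.W_mem) (C.supp_e1.smul b)] at hW'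
    have o1 : om (E C.m) (E C.m1 : Vec F n) = 0 := by simp
    have o2 : om (Fb C.m) (E C.m1 : Vec F n) = 0 := by simp [C.m_ne, C.m_ne.symm]
    have o3 : om (E C.m1) (E C.m : Vec F n) = 0 := by simp
    have o4 : om (E C.m1) (Fb C.m : Vec F n) = 0 := by simp [C.m_ne, C.m_ne.symm]
    rw [hW', x1, conj_B s o1, hse, C.act_s hs C.supp_e1, ← B_smul _ _ o1, ← B_smul _ _ o2,
      B_comm _ _ (by simp [o2, C.m_ne, C.m_ne.symm]), B_comm (a • E C.m) _ (by simp), B_comm (b • Fb C.m) _ (by simp [o2, C.m_ne, C.m_ne.symm]),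
      B_mul (by simp) (by simp [o4]), mul_assoc, T_add]
    simp [C.m_ne, C.m_ne.symm, mul_comm b a]
  have key : C.A.sg C.m s * C.A.mu C.m C.x1 * (C.A.sg C.m s)⁻¹ =
      C.bta (a • E C.m1) * C.btap (b • E C.m1) * C.ψ (T (E C.m1) (-(a * b))) := by
    have hW := hR2 C.W_mem
    have hBb := hR1 (C.B_mem_m b)
    have hWB := mul_mem (mul_mem (inv_mem hW) hBb) hW
    rw [← hB _ hs, ← hA _ C.x1_mem, ← hΨ.conj (hR2 hs) (hR1 C.x1_mem), grp,
      hΨ _ (mul_mem (hR1 (C.B_mem_m a)) hWB) _ (hR1 (C.T1_mem_m _)),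
      hΨ _ (hR1 (C.B_mem_m a)) _ hWB, hΨ _ (mul_mem (inv_mem hW) hBb) _ hW,
      hΨ _ (inv_mem hW) _ hBb, hA _ (C.B_mem_m a), hA _ (C.B_mem_m b), hA _ (C.T1_mem_m _),
      hB _ C.W_mem, hB _ (inv_mem C.W_mem), btap, C.bta_smul_e1, C.bta_smul_e1,
      C.ψ_eq_mu (C.T1_mem_m _) hT1]
  have hcs : Commute (C.A.sg C.m s) (C.ψ g) := C.sg_comm_ψ hs hg
  have hcW : Commute (C.A.sg C.m C.W) (C.ψ g) := C.sg_comm_ψ C.W_mem hg
  have e1 : C.bta (a • z) = C.ψ g * C.bta (a • E C.m1) * (C.ψ g)⁻¹ := by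
    rw [C.bta_conj (C.supp_e1.smul a) hg, act_smul, hgz]
  have e2 : C.btap (b • z) = C.ψ g * C.btap (b • E C.m1) * (C.ψ g)⁻¹ := by
    rw [btap, btap, show b • z = act g (b • E C.m1) by rw [act_smul, hgz],
      ← C.bta_conj (C.supp_e1.smul b) hg, C.sg_inv C.W_mem]
    generalize C.A.sg C.m C.W = w at hcW ⊢
    generalize C.ψ g = p at hcW ⊢
    generalize C.bta (b • E C.m1) = x
    calc w⁻¹ * (p * x * p⁻¹) * w = (w⁻¹ * p) * x * (p⁻¹ * w) := by group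
      _ = p * (w⁻¹ * x * w) * p⁻¹ := by rw [hcW.inv_left.eq, hcW.inv_right.eq.symm]; group
  have e3 : C.ψ (T z (-(a * b))) = C.ψ g * C.ψ (T (E C.m1) (-(a * b))) * (C.ψ g)⁻¹ := by
    rw [← C.hψ.hom.conj hg hT1, conj_T, hgz]
  rw [e1, e2, e3, C.bta_eq hg hgz]
  calc C.A.sg C.m s * (C.ψ g * C.A.mu C.m C.x1 * (C.ψ g)⁻¹) * (C.A.sg C.m s)⁻¹
      = (C.A.sg C.m s * C.ψ g) * C.A.mu C.m C.x1 * ((C.ψ g)⁻¹ * (C.A.sg C.m s)⁻¹) := by group
    _ = C.ψ g * (C.A.sg C.m s * C.A.mu C.m C.x1 * (C.A.sg C.m s)⁻¹) * (C.ψ g)⁻¹ := by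
        rw [hcs.eq, hcs.inv_inv.eq.symm]; group
    _ = _ := by rw [key]; group

theorem bta_eqv_l {z v : Vec F n} (hz : Supp ((C.m : ℕ) + 1) z) (hv : Supp (C.m : ℕ) v)
    (hr : v (Sum.inr C.m) = 0) (hl : v (Sum.inl C.m) ≠ 0) (hl' : v (Sum.inl C.m) + om z v ≠ 0) :
    C.Eqv (C.bta z) v := by
  have hid := C.sg_bta C.L_mem (show act C.L (E C.m) = (1 : F) • E C.m + (1 : F) • Fb C.m by
    rw [C.L_e, one_smul, one_smul]) hz
  rw [one_smul, mul_one] at hid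
  set h3 := C.bta z * C.btap z * C.ψ (T z (-(1 : F))) with hh3
  have hLi : (C.A.sg C.m C.L)⁻¹ = C.A.sg C.m C.L⁻¹ := (C.sg_inv C.L_mem).symm
  have eb : C.bta z = C.A.sg C.m C.L⁻¹ * (h3 * C.A.sg C.m C.L) := by
    rw [← hLi, ← hid]; group
  obtain ⟨d1, d2, -⟩ := C.B_data hz v
  have hTz : T z (-(1 : F)) ∈ Gm ((C.m : ℕ) + 1) := T_mem_gm _ hz
  have Lcoord : ∀ x : Vec F n, act C.L x (Sum.inl C.m) = x (Sum.inl C.m) ∧
      act C.L x (Sum.inr C.m) = x (Sum.inl C.m) + x (Sum.inr C.m) := by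
    intro x
    simp [L, sl, planeMap, add_comm]
  set w := act C.L v with hw
  have hwS : Supp (C.m : ℕ) w := C.supp_act_s C.L_mem hv
  set w1 := act (T z (-(1 : F))) w with hw1
  have hw1S : Supp (C.m : ℕ) w1 := hwS.act (gm_mono (Nat.le_succ _) hTz)
  have hw1l : w1 (Sum.inl C.m) ≠ 0 := by
    rw [hw1, (C.g_data hTz w).1, hw, (Lcoord v).1]; exact hl
  obtain ⟨hb1, -⟩ := C.btap_eqv hz hw1S hw1l
  have hw2S : Supp (C.m : ℕ) (act (B (Fb C.m) z) w1) :=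
    hw1S.act (B_mem_gm (by simp [(hz C.m (Nat.lt_succ_self _)).1]) (supp_Fb le_rfl)
      (hz.mono (Nat.le_succ _)))
  have hfin : act (C.A.π h3) w = act C.L (act (B (E C.m) z) v) := by
    rw [← hid, map_mul, map_mul, map_inv, C.π_bta hz, C.π_sg C.L_mem, act_mul, act_mul, hw,
      act_inv_act]
  have hr3 : act (C.A.π h3) w (Sum.inr C.m) ≠ 0 := by
    rw [hfin, (Lcoord _).2, d1, d2, hr, add_zero]; exact hl'
  have hr2 : act (B (Fb C.m) z) w1 (Sum.inr C.m) ≠ 0 := by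
    intro h
    apply hr3
    rw [hh3, map_mul, map_mul, C.π_bta hz, C.π_btap hz, C.hψ.π_eq _ hTz, act_mul, act_mul,
      ← hw1, (C.B_data hz _).2.1, h]
  have E3 : C.Eqv h3 w := by
    refine C.eqv_mul (C.ψ_eqv_off hTz hwS (Or.inl (by rw [hw, (Lcoord v).1]; exact hl))) ?_
    rw [C.hψ.π_eq _ hTz]
    refine C.eqv_mul hb1 ?_
    rw [C.π_btap hz]
    exact C.bta_eqv_r hz hw2S hr2
  rw [eb]
  refine C.eqv_mul (C.eqv_mul (C.sg_eqv_off C.L_mem hv (Or.inl hl)) ?_) ?_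
  · rw [C.π_sg C.L_mem]; exact E3
  · rw [map_mul, C.π_sg C.L_mem, act_mul, ← hw]
    refine C.sg_eqv_off (inv_mem C.L_mem) ?_ (Or.inr hr3)
    rw [hfin]
    exact C.supp_act_s C.L_mem (hv.act (C.B_mem_stab hz).1)

theorem exists_z {v : Vec F n} (hv : Supp (C.m : ℕ) v) (hn : ¬ C.Off v) (h0 : v ≠ 0) :
    ∃ z, Supp ((C.m : ℕ) + 1) z ∧ om z v ≠ 0 := by
  rw [Off] at hn
  push Not at hn
  obtain ⟨l, hl⟩ : ∃ l, v (Sum.inl l) ≠ 0 ∨ v (Sum.inr l) ≠ 0 := by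
    by_contra h
    push Not at h
    exact h0 (vec_ext (fun l => by simp [(h l).1]) fun l => by simp [(h l).2])
  have hlm : (C.m : ℕ) + 1 ≤ l := by
    by_contra hc
    rcases eq_or_ne l C.m with rfl | h
    · exact hl.elim (fun h => h hn.1) (fun h => h hn.2)
    · have : (l : ℕ) < C.m := by have := Fin.val_ne_of_ne h; omega
      exact hl.elim (fun h => h (hv l this).1) (fun h => h (hv l this).2)
  rcases hl with hl | hl
  · exact ⟨Fb l, supp_Fb hlm, by simpa using hl⟩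
  · exact ⟨E l, supp_E hlm, by simpa using hl⟩

theorem B_neg_data {v z : Vec F n} (hn : ¬ C.Off v) (hz : Supp ((C.m : ℕ) + 1) z) :
    act (B (E C.m) (-z)) v = v - om z v • E C.m := by
  rw [Off] at hn
  push Not at hn
  rw [act_B (C.om_e_of_supp hz.neg)]
  simp only [om_E_left, hn.2, zero_smul, add_zero, om_neg_left, neg_smul]
  rw [sub_eq_add_neg]

theorem off_down {v z : Vec F n} (hv : Supp (C.m : ℕ) v) (hn : ¬ C.Off v)
    (hz : Supp ((C.m : ℕ) + 1) z) (hp : om z v ≠ 0) :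
    Supp (C.m : ℕ) (act (B (E C.m) (-z)) v) ∧ C.Off (act (B (E C.m) (-z)) v) := by
  refine ⟨hv.act (C.B_mem_stab hz.neg).1, Or.inl ?_⟩
  rw [Off] at hn
  push Not at hn
  rw [(C.B_data hz.neg v).1, hn.1, zero_add, om_neg_left]
  exact neg_ne_zero.mpr hp

theorem indep {v z z' : Vec F n} (hv : Supp (C.m : ℕ) v) (hn : ¬ C.Off v)
    (hz : Supp ((C.m : ℕ) + 1) z) (hp : om z v ≠ 0) (hz' : Supp ((C.m : ℕ) + 1) z')
    (hq : om z' v ≠ 0) :
    C.bta z' • C.cls (act (B (E C.m) (-z')) v) = C.bta z • C.cls (act (B (E C.m) (-z)) v) := by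
  obtain ⟨hwS, hwO⟩ := C.off_down hv hn hz' hq
  have hd : Supp ((C.m : ℕ) + 1) (z' - z) := hz'.sub hz
  have e : C.bta z' = C.bta z * (C.bta (z' - z) * C.tau (-(om z (z' - z)))) := by
    rw [← mul_assoc, C.bta_add hz hd, add_sub_cancel, mul_assoc, C.tau_add, add_neg_cancel,
      C.tau_zero, mul_one]
  rw [e, mul_smul]
  congr 1
  set w := act (B (E C.m) (-z')) v with hw
  rw [C.B_neg_data hn hz'] at hw
  have hwr : w (Sum.inr C.m) = 0 := by
    rw [Off] at hn; push Not at hn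
    rw [hw]; simp [hn.2]
  have hTw : act (T (E C.m) (-(om z (z' - z)))) w = w := by
    rw [act_T, om_E_left, hwr, mul_zero, zero_smul, add_zero]
  have hwl : w (Sum.inl C.m) = - om z' v := by
    rw [Off] at hn; push Not at hn
    rw [hw]; simp [hn.1]
  have hom : om (z' - z) w = om z' v - om z v := by
    rw [hw, om_sub_right, om_smul_right, C.om_e_of_supp' hd, mul_zero, sub_zero, om_sub_left]
  have h := C.eqv_mul (C.sg_eqv_off (C.T_mem_s (-(om z (z' - z)))) hwS hwO)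
    (h := C.bta (z' - z)) (by
      rw [C.π_sg (C.T_mem_s _), hTw]
      exact C.bta_eqv_l hd hwS hwr (by rw [hwl]; exact neg_ne_zero.mpr hq)
        (by rw [hwl, hom, neg_add_eq_sub, sub_sub_cancel_left]; exact neg_ne_zero.mpr hp))
  rw [Eqv, map_mul, C.π_bta hd, C.π_sg (C.T_mem_s _), act_mul, hTw] at h
  rw [tau, h, C.B_neg_data hn hz, act_B (C.om_e_of_supp hd), om_E_left, hwr, zero_smul, add_zero,
    hom, hw]
  congr 1
  module

theorem cls_down {v z : Vec F n} (hv : Supp (C.m : ℕ) v) (hn : ¬ C.Off v)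
    (hz : Supp ((C.m : ℕ) + 1) z) (hp : om z v ≠ 0) :
    C.cls v = C.bta z • C.cls (act (B (E C.m) (-z)) v) := by
  have h : ∃ z, Supp ((C.m : ℕ) + 1) z ∧ om z v ≠ 0 := ⟨z, hz, hp⟩
  rw [← C.indep hv hn hz hp h.choose_spec.1 h.choose_spec.2, cls, rep, if_neg hn, dif_pos h, cls,
    rep, if_pos (C.off_down hv hn h.choose_spec.1 h.choose_spec.2).2, MulAction.Quotient.smul_coe,
    smul_eq_mul]

theorem B_neg_inv {z : Vec F n} (hz : Supp ((C.m : ℕ) + 1) z) :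
    B (E C.m) z * B (E C.m) (-z) = 1 ∧ C.bta z * C.bta (-z) = 1 := by
  constructor
  · rw [B_mul (C.om_e_of_supp hz) (C.om_e_of_supp hz.neg)]
    simp
  · rw [C.bta_add hz hz.neg]
    simp [C.bta_zero, C.tau_zero]

theorem bta_eqv {z v : Vec F n} (hz : Supp ((C.m : ℕ) + 1) z) (hv : Supp (C.m : ℕ) v)
    (h0 : v ≠ 0) : C.Eqv (C.bta z) v := by
  by_cases hr : v (Sum.inr C.m) ≠ 0
  · exact C.bta_eqv_r hz hv hr
  push Not at hr
  obtain ⟨d1, d2, -⟩ := C.B_data hz v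
  by_cases hl : v (Sum.inl C.m) ≠ 0
  · by_cases hl' : v (Sum.inl C.m) + om z v ≠ 0
    · exact C.bta_eqv_l hz hv hr hl hl'
    push Not at hl'
    rw [Eqv, C.π_bta hz]
    have hn : ¬ C.Off (act (B (E C.m) z) v) := by
      rw [Off, d1, d2]; push Not; exact ⟨hl', hr⟩
    have hp : om z (act (B (E C.m) z) v) ≠ 0 := by
      rw [act_B (C.om_e_of_supp hz)]
      simp only [om_add_right, om_smul_right, om_self, C.om_e_of_supp' hz, mul_zero, add_zero]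
      intro h
      rw [h, add_zero] at hl'
      exact hl hl'
    rw [C.cls_down (hv.act (C.B_mem_stab hz).1) hn hz hp]
    congr 2
    have hi := (C.B_neg_inv hz.neg).1
    rw [neg_neg] at hi
    rw [← act_mul, hi, act_one]
  push Not at hl
  have hn : ¬ C.Off v := by rw [Off]; push Not; exact ⟨hl, hr⟩
  rw [Eqv, C.π_bta hz]
  by_cases hp : om z v ≠ 0
  · rw [C.cls_down hv hn hz.neg (by rw [om_neg_left]; exact neg_ne_zero.mpr hp), neg_neg,
      ← mul_smul, (C.B_neg_inv hz).2, one_smul]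
  push Not at hp
  have hfix : act (B (E C.m) z) v = v := by
    rw [act_B (C.om_e_of_supp hz), om_E_left, hr, hp]; simp
  rw [hfix]
  obtain ⟨y, hy, hy1⟩ := C.exists_z hv hn h0
  have hzy : om (z + y) v = om y v := by rw [om_add_left, hp, zero_add]
  obtain ⟨hwS, hwO⟩ := C.off_down hv hn hy hy1
  have hT := C.sg_eqv_off (C.T_mem_s (om z y)) hwS hwO
  rw [C.B_neg_data hn hy] at hwS hwO hT
  rw [Eqv, C.π_sg (C.T_mem_s _)] at hT
  have hTw : act (T (E C.m) (om z y)) (v - om y v • E C.m) = v - om y v • E C.m := by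
    rw [act_T]; simp [hr]
  rw [hTw] at hT
  conv_lhs => rw [C.cls_down hv hn hy hy1]
  rw [C.cls_down hv hn (hz.add hy) (by rw [hzy]; exact hy1), C.B_neg_data hn hy,
    C.B_neg_data hn (hz.add hy), hzy, ← mul_smul, C.bta_add hz hy, mul_smul, tau, hT]

theorem ψ_eqv {g : Sp F n} (hg : g ∈ Gm ((C.m : ℕ) + 1)) {v : Vec F n} (hv : Supp (C.m : ℕ) v)
    (h0 : v ≠ 0) : C.Eqv (C.ψ g) v := by
  by_cases hn : C.Off v
  · exact C.ψ_eqv_off hg hv hn
  obtain ⟨z, hz, hp⟩ := C.exists_z hv hn h0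
  obtain ⟨hwS, hwO⟩ := C.off_down hv hn hz hp
  have h1 := C.ψ_eqv_off hg hwS hwO
  have hgv : Supp (C.m : ℕ) (act g v) := hv.act (gm_mono (Nat.le_succ _) hg)
  have hn' : ¬ C.Off (act g v) := by
    rw [Off, (C.g_data hg v).1, (C.g_data hg v).2.1]; exact hn
  have e : act g (act (B (E C.m) (-z)) v) = act (B (E C.m) (-act g z)) (act g v) := by
    rw [← act_mul, ← act_mul, show g * B (E C.m) (-z) = (g * B (E C.m) (-z) * g⁻¹) * g by group,
      conj_B g (C.om_e_of_supp hz.neg), C.act_e hg, act_neg]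
  rw [Eqv, C.hψ.π_eq g hg] at h1 ⊢
  rw [C.cls_down hv hn hz hp, ← mul_smul, C.ψ_mul_bta hz hg, mul_smul, h1, e,
    ← C.cls_down hgv hn' (hz.act hg) (by rw [om_act]; exact hp)]

theorem sg_eqv {s : Sp F n} (hs : s ∈ sSub C.m) {v : Vec F n} (hv : Supp (C.m : ℕ) v)
    (h0 : v ≠ 0) : C.Eqv (C.A.sg C.m s) v := by
  by_cases hn : C.Off v
  · exact C.sg_eqv_off hs hv hn
  suffices main : ∀ s ∈ sSub C.m, act s (E C.m) (Sum.inl C.m) ≠ 0 → C.Eqv (C.A.sg C.m s) v by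
    by_cases ha : act s (E C.m) (Sum.inl C.m) ≠ 0
    · exact main s hs ha
    push Not at ha
    have hL : act C.L (E C.m) (Sum.inl C.m) ≠ 0 := by rw [C.L_e]; simp
    have hfix : act C.L v = v := by
      refine C.act_s C.L_mem ?_
      intro l hl
      rcases eq_or_ne l C.m with rfl | h
      · rw [Off] at hn; push Not at hn; exact hn
      · exact hv l (by have := Fin.val_ne_of_ne h; omega)
    rw [show s = (s * C.L⁻¹) * C.L by group,
      C.sg_mul (mul_mem hs (inv_mem C.L_mem)) C.L_mem]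
    refine C.eqv_mul (main _ C.L_mem hL) ?_
    rw [C.π_sg C.L_mem, hfix]
    refine main _ (mul_mem hs (inv_mem C.L_mem)) ?_
    have hLf : act C.L⁻¹ (E C.m) = E C.m - Fb C.m := by
      refine act_inv_of_act ?_
      rw [act_sub, C.L_e]; simp [L]
    rw [act_mul, hLf, act_sub, Pi.sub_apply, ha, zero_sub, neg_ne_zero]
    intro hc
    have h1 : om (act s (E C.m)) (act s (Fb C.m)) = 1 := by rw [om_act]; simp
    have e1 := C.act_s_plane hs 1 0
    rw [one_smul, zero_smul, add_zero, ha, zero_smul, zero_add] at e1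
    have e2 := C.act_s_plane hs 0 1
    rw [one_smul, zero_smul, zero_add, hc, zero_smul, zero_add] at e2
    rw [e1, e2] at h1
    simp at h1
  intro s hs ha
  obtain ⟨z, hz, hp⟩ := C.exists_z hv hn h0
  obtain ⟨hwS, hwO⟩ := C.off_down hv hn hz hp
  set w := act (B (E C.m) (-z)) v with hw
  set a := act s (E C.m) (Sum.inl C.m) with hadef
  set b := act s (E C.m) (Sum.inr C.m) with hbdef
  have hse : act s (E C.m) = a • E C.m + b • Fb C.m := by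
    have e := C.act_s_plane hs 1 0
    rwa [one_smul, zero_smul, add_zero] at e
  have hid := C.sg_bta hs hse hz
  have hsv : act s v = v := by
    refine C.act_s hs ?_
    intro l hl
    rcases eq_or_ne l C.m with rfl | h
    · rw [Off] at hn; push Not at hn; exact hn
    · exact hv l (by have := Fin.val_ne_of_ne h; omega)
  have hT : T z (-(a * b)) ∈ Gm ((C.m : ℕ) + 1) := T_mem_gm _ hz
  set w2 := act s w with hw2
  have hw2l : w2 (Sum.inl C.m) ≠ 0 := by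
    rw [hw2, hw, C.B_neg_data hn hz, act_sub, act_smul, hsv, Pi.sub_apply, Pi.smul_apply]
    rw [Off] at hn; push Not at hn
    rw [hn.1, zero_sub, smul_eq_mul, neg_ne_zero]
    exact mul_ne_zero hp ha
  have hw2S : Supp (C.m : ℕ) w2 := C.supp_act_s hs hwS
  set w3 := act (T z (-(a * b))) w2 with hw3
  have hw3S : Supp (C.m : ℕ) w3 := hw2S.act (gm_mono (Nat.le_succ _) hT)
  have hw3l : w3 (Sum.inl C.m) ≠ 0 := by rw [hw3, (C.g_data hT w2).1]; exact hw2l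
  obtain ⟨hb1, hb2⟩ := C.btap_eqv (hz.smul b) hw3S hw3l
  have hw4S : Supp (C.m : ℕ) (act (B (Fb C.m) (b • z)) w3) :=
    hw3S.act (B_mem_gm (by simp [(hz C.m (Nat.lt_succ_self _)).1]) (supp_Fb le_rfl)
      ((hz.smul b).mono (Nat.le_succ _)))
  have hw40 : act (B (Fb C.m) (b • z)) w3 ≠ 0 := fun h => hw3l (by
    rw [← hb2, h]; rfl)
  have E3 : C.Eqv (C.bta (a • z) * C.btap (b • z) * C.ψ (T z (-(a * b))) * C.A.sg C.m s) w := by
    refine C.eqv_mul (C.sg_eqv_off hs hwS hwO) ?_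
    rw [C.π_sg hs, ← hw2]
    refine C.eqv_mul (C.ψ_eqv_off hT hw2S (Or.inl hw2l)) ?_
    rw [C.hψ.π_eq _ hT, ← hw3]
    refine C.eqv_mul hb1 ?_
    rw [C.π_btap (hz.smul b)]
    exact C.bta_eqv (hz.smul a) hw4S hw40
  rw [← hid, inv_mul_cancel_right] at E3
  rw [Eqv, map_mul, C.π_sg hs, C.π_bta hz] at E3
  have hBw : act (B (E C.m) z) w = v := by
    rw [hw, ← act_mul, (C.B_neg_inv hz).1, act_one]
  rw [act_mul, hBw, hsv] at E3
  rw [Eqv, C.π_sg hs, hsv]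
  conv_lhs => rw [C.cls_down hv hn hz hp]
  rw [← mul_smul]
  exact E3

theorem mu_eqv {g : Sp F n} (hg : g ∈ mSub C.m) {v : Vec F n} (hv : Supp (C.m : ℕ) v)
    (h0 : v ≠ 0) : C.Eqv (C.A.mu C.m g) v := by
  rw [← C.psiP_eq_mu hg]
  obtain ⟨u, hu, c, a, ha, rfl⟩ := C.stab_cases (C.mSub_le_stab hg)
  rw [C.psiP_eq hu c ha]
  refine C.eqv_mul (C.ψ_eqv ha hv h0) ?_
  rw [C.hψ.π_eq a ha]
  have hv1 := hv.act (gm_mono (Nat.le_succ _) ha)
  refine C.eqv_mul (C.sg_eqv (C.T_mem_s c) hv1 (act_ne_zero _ h0)) ?_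
  rw [C.π_tau]
  exact C.bta_eqv hu (hv1.act (C.T_mem_stab c).1) (act_ne_zero _ (act_ne_zero _ h0))

/-- The generators of the lift of `Gm m`. -/
def lifts : Set H :=
  {x | (∃ s ∈ sSub C.m, C.A.sg C.m s = x) ∨ (∃ g ∈ Gm ((C.m : ℕ) + 1), C.ψ g = x) ∨
    ∃ g ∈ mSub C.m, C.A.mu C.m g = x}

/-- The lift of `Gm m`. -/
def Gam : Subgroup H := Subgroup.closure C.lifts

theorem sg_mem_Gam {s : Sp F n} (hs : s ∈ sSub C.m) : C.A.sg C.m s ∈ C.Gam :=
  Subgroup.subset_closure (Or.inl ⟨s, hs, rfl⟩)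

theorem ψ_mem_Gam {g : Sp F n} (hg : g ∈ Gm ((C.m : ℕ) + 1)) : C.ψ g ∈ C.Gam :=
  Subgroup.subset_closure (Or.inr (Or.inl ⟨g, hg, rfl⟩))

theorem mu_mem_Gam {g : Sp F n} (hg : g ∈ mSub C.m) : C.A.mu C.m g ∈ C.Gam :=
  Subgroup.subset_closure (Or.inr (Or.inr ⟨g, hg, rfl⟩))

theorem bta_mem_Gam {u : Vec F n} (hu : Supp ((C.m : ℕ) + 1) u) : C.bta u ∈ C.Gam := by
  rcases eq_or_ne u 0 with rfl | hu0
  · rw [C.bta_zero]; exact one_mem _
  obtain ⟨g, hg, hgu⟩ := C.exists_g1 hu hu0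
  rw [C.bta_eq hg hgu]
  exact mul_mem (mul_mem (C.ψ_mem_Gam hg) (C.mu_mem_Gam C.x1_mem)) (inv_mem (C.ψ_mem_Gam hg))

theorem π_Gam : C.Gam.map C.A.π ≤ Subgroup.closure (gens (C.m : ℕ)) := by
  rw [Subgroup.map_le_iff_le_comap, Gam, Subgroup.closure_le]
  rintro x (⟨s, hs, rfl⟩ | ⟨g, hg, rfl⟩ | ⟨g, hg, rfl⟩)
  · rw [SetLike.mem_coe, Subgroup.mem_comap, C.π_sg hs]
    exact Subgroup.subset_closure ⟨C.m, le_rfl, Or.inl hs⟩
  · rw [SetLike.mem_coe, Subgroup.mem_comap, C.hψ.π_eq g hg]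
    exact Subgroup.closure_mono (gens_mono (Nat.le_succ _)) (C.hgen _ le_rfl hg)
  · rw [SetLike.mem_coe, Subgroup.mem_comap, C.A.π_mu C.m C.m_lt g hg]
    exact Subgroup.subset_closure ⟨C.m, le_rfl, Or.inr ⟨C.m_lt, hg⟩⟩

theorem π_mem {h : H} (hh : h ∈ C.Gam) : C.A.π h ∈ Gm (C.m : ℕ) :=
  closure_gens_le _ (C.π_Gam ⟨h, hh, rfl⟩)

theorem gam_eqv {h : H} (hh : h ∈ C.Gam) : ∀ {v : Vec F n}, Supp (C.m : ℕ) v → v ≠ 0 →
    C.Eqv h v := by
  refine Subgroup.closure_induction (p := fun h _ => ∀ {v : Vec F n}, Supp (C.m : ℕ) v → v ≠ 0 →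
    C.Eqv h v) ?_ ?_ ?_ ?_ hh
  · rintro x (⟨s, hs, rfl⟩ | ⟨g, hg, rfl⟩ | ⟨g, hg, rfl⟩) v hv h0
    · exact C.sg_eqv hs hv h0
    · exact C.ψ_eqv hg hv h0
    · exact C.mu_eqv hg hv h0
  · intro v _ _
    exact C.eqv_one v
  · intro x y hx hy h1 h2 v hv h0
    exact C.eqv_mul (h2 hv h0) (h1 (hv.act (C.π_mem hy)) (act_ne_zero _ h0))
  · intro x hx h1 v hv h0
    refine C.eqv_inv (h1 (hv.act ?_) (act_ne_zero _ h0))
    exact C.π_mem (inv_mem hx)

theorem cls_e : C.cls (E C.m) = ((1 : H) : H ⧸ C.K) := by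
  have hv : Supp (C.m : ℕ) (E C.m : Vec F n) := supp_E le_rfl
  have hp : pr C.m (E C.m : Vec F n) = 0 := by simp [pr]
  rw [C.cls_eq hv (Or.inl (by simp)) (one_mem _) (by simp [pl]), hp, C.bta_zero, one_mul, mul_one,
    C.sg_inv C.W_mem, mul_inv_cancel]

theorem gam_inj {h : H} (hh : h ∈ C.Gam) (h1 : C.A.π h = 1) : h = 1 := by
  have he := C.gam_eqv hh (supp_E le_rfl) (v := E C.m) (fun e => by simpa using congrFun e (Sum.inl C.m))
  rw [Eqv, h1, act_one, C.cls_e, MulAction.Quotient.smul_coe, smul_eq_mul, mul_one,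
    QuotientGroup.eq, mul_one, inv_mem_iff] at he
  obtain ⟨g, hg, rfl⟩ := he
  rw [C.π_psiP hg] at h1
  rw [h1, C.psiP_hom.one]

theorem exists_lift_vec {v : Vec F n} (hv : Supp (C.m : ℕ) v) (h0 : v ≠ 0) :
    ∃ h ∈ C.Gam, act (C.A.π h) (E C.m) = v := by
  have main : ∀ {v : Vec F n}, Supp (C.m : ℕ) v → C.Off v →
      ∃ h ∈ C.Gam, act (C.A.π h) (E C.m) = v := by
    intro v hv hoff
    obtain ⟨s, hs, hse⟩ := C.exists_s hoff
    have hu := C.supp_pr' hv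
    refine ⟨C.A.sg C.m (s * C.W) * C.bta (pr C.m v) * C.A.sg C.m C.W⁻¹,
      mul_mem (mul_mem (C.sg_mem_Gam (mul_mem hs C.W_mem)) (C.bta_mem_Gam hu))
        (C.sg_mem_Gam (inv_mem C.W_mem)), ?_⟩
    rw [map_mul, map_mul, C.π_sg (mul_mem hs C.W_mem), C.π_bta hu, C.π_sg (inv_mem C.W_mem),
      act_mul, C.W_inv_e, act_mul, act_B (C.om_e_of_supp hu)]
    have hu1 : om (pr C.m v) (Fb C.m) = 0 := by simp [(hu C.m (Nat.lt_succ_self _)).1]
    rw [hu1, zero_smul, add_zero, om_E_left, Fb_inr, if_pos rfl, one_smul, act_mul, act_add, C.W_f,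
      C.act_s C.W_mem hu, act_add, hse, C.act_s hs hu]
    rw [add_comm]
    exact C.pr_add_pl v
  by_cases hn : C.Off v
  · exact main hv hn
  obtain ⟨z, hz, hp⟩ := C.exists_z hv hn h0
  obtain ⟨hwS, hwO⟩ := C.off_down hv hn hz hp
  obtain ⟨h, hh, hhe⟩ := main hwS hwO
  refine ⟨C.bta z * h, mul_mem (C.bta_mem_Gam hz) hh, ?_⟩
  rw [map_mul, act_mul, hhe, C.π_bta hz, ← act_mul, (C.B_neg_inv hz).1, act_one]

theorem exists_lift {g : Sp F n} (hg : g ∈ Gm (C.m : ℕ)) : ∃ h ∈ C.Gam, C.A.π h = g := by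
  obtain ⟨h, hh, hhe⟩ := C.exists_lift_vec ((supp_E le_rfl).act hg)
    (v := act g (E C.m)) (act_ne_zero g (fun e => by simpa using congrFun e (Sum.inl C.m)))
  have hst : (C.A.π h)⁻¹ * g ∈ C.stab :=
    ⟨mul_mem (inv_mem (C.π_mem hh)) hg, by rw [act_mul, act_inv_of_act hhe]⟩
  refine ⟨h * C.psiP ((C.A.π h)⁻¹ * g), mul_mem hh ?_, ?_⟩
  · obtain ⟨u, hu, c, a, ha, e⟩ := C.stab_cases hst
    rw [e, C.psiP_eq hu c ha]
    exact mul_mem (mul_mem (C.bta_mem_Gam hu) (C.sg_mem_Gam (C.T_mem_s c))) (C.ψ_mem_Gam ha)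
  · rw [map_mul, C.π_psiP hst, mul_inv_cancel_left]

theorem gm_le_closure : (Gm (C.m : ℕ) : Subgroup (Sp F n)) ≤ Subgroup.closure (gens (C.m : ℕ)) := by
  intro g hg
  obtain ⟨h, hh, rfl⟩ := C.exists_lift hg
  exact C.π_Gam ⟨h, hh, rfl⟩

open Classical in
/-- The extension to `Gm m`. -/
noncomputable def next (g : Sp F n) : H :=
  if h : g ∈ Gm (C.m : ℕ) then (C.exists_lift h).choose else 1

theorem next_eq {h : H} (hh : h ∈ C.Gam) : C.next (C.A.π h) = h := by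
  have hg := C.π_mem hh
  rw [next, dif_pos hg]
  obtain ⟨ha, hae⟩ := (C.exists_lift hg).choose_spec
  generalize (C.exists_lift hg).choose = a at ha hae ⊢
  have := C.gam_inj (mul_mem ha (inv_mem hh)) (by rw [map_mul, map_inv, hae, mul_inv_cancel])
  exact mul_inv_eq_one.mp this

theorem ext_next : Ext C.A (C.m : ℕ) C.next := by
  refine ⟨?_, ?_, ?_, ?_⟩
  · intro x hx y hy
    obtain ⟨a, ha, rfl⟩ := C.exists_lift hx
    obtain ⟨b, hb, rfl⟩ := C.exists_lift hy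
    rw [← map_mul, C.next_eq (mul_mem ha hb), C.next_eq ha, C.next_eq hb]
  · intro x hx
    obtain ⟨a, ha, rfl⟩ := C.exists_lift hx
    rw [C.next_eq ha]
  · intro j hj x hx
    rcases eq_or_lt_of_le hj with e | e
    · obtain rfl : C.m = j := Fin.ext e
      conv_lhs => rw [← C.π_sg hx]
      exact C.next_eq (C.sg_mem_Gam hx)
    · have hx' : x ∈ Gm ((C.m : ℕ) + 1) := sSub_le_gm e hx
      conv_lhs => rw [← C.hψ.π_eq x hx']
      rw [C.next_eq (C.ψ_mem_Gam hx'), C.hψ.on_s j e x hx]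
  · intro i hi hi1 x hx
    rcases eq_or_lt_of_le hi with e | e
    · obtain rfl : C.m = i := Fin.ext e
      conv_lhs => rw [← C.A.π_mu _ C.m_lt x hx]
      exact C.next_eq (C.mu_mem_Gam hx)
    · have hx' : x ∈ Gm ((C.m : ℕ) + 1) := mSub_le_gm e hx
      conv_lhs => rw [← C.hψ.π_eq x hx']
      rw [C.next_eq (C.ψ_mem_Gam hx'), C.hψ.on_m i e hi1 x hx]

end Ctx

end Cfsg.Agent.Lib.SpAmalgam
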