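import Cfsg.Agent.Lib.SpAmalgam.Stab

/-!
Inductive step, first half: the lift of the stabiliser of `e_m` in `Gm m`, a semidirect product
of a Heisenberg group with `Gm (m + 1)`.
-/

set_option autoImplicit false

namespace Cfsg.Agent.Lib.SpAmalgam

variable {F : Type*} [Field F] {n : ℕ} {H : Type*} [Group H]

/-- The data of the inductive step. -/
structure Ctx (F : Type*) [Field F] (n : ℕ) (H : Type*) [Group H] where
  A : Amalg F n H
  m : Fin n
  m1 : Fin n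
  hm : (m1 : ℕ) = m + 1
  ψ : Sp F n → H
  hψ : Ext A ((m : ℕ) + 1) ψ
  hgen : ∀ k, (m : ℕ) + 1 ≤ k → (Gm k : Subgroup (Sp F n)) ≤ Subgroup.closure (gens k)
  hfield : ∃ t : F, t ≠ 0 ∧ t ≠ 1

namespace Ctx

variable (C : Ctx F n H)

theorem m_lt : (C.m : ℕ) + 1 < n := C.hm ▸ C.m1.2

theorem m_ne : C.m ≠ C.m1 := fun e => by have := C.hm; rw [← e] at this; omega

theorem supp_e1 : Supp ((C.m : ℕ) + 1) (E C.m1 : Vec F n) := supp_E C.hm.ge

theorem supp_f1 : Supp ((C.m : ℕ) + 1) (Fb C.m1 : Vec F n) := supp_Fb C.hm.ge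

theorem om_e_of_supp {u : Vec F n} (hu : Supp ((C.m : ℕ) + 1) u) : om (E C.m) u = 0 :=
  hu.om_E (Nat.lt_succ_self _)

theorem om_e_of_supp' {u : Vec F n} (hu : Supp ((C.m : ℕ) + 1) u) : om u (E C.m) = 0 := by
  rw [om_swap, C.om_e_of_supp hu, neg_zero]

theorem act_e {g : Sp F n} (hg : g ∈ Gm ((C.m : ℕ) + 1)) : act g (E C.m) = E C.m :=
  (hg C.m (Nat.lt_succ_self _)).1

theorem act_f {g : Sp F n} (hg : g ∈ Gm ((C.m : ℕ) + 1)) : act g (Fb C.m) = Fb C.m :=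
  (hg C.m (Nat.lt_succ_self _)).2

theorem act_s {s : Sp F n} (hs : s ∈ sSub C.m) {u : Vec F n} (hu : Supp ((C.m : ℕ) + 1) u) :
    act s u = u :=
  act_eq_of_fixSub hs fun l hl => by
    rw [not_ne_iff] at hl
    exact hu l (by rw [hl]; omega)

theorem s1_le : (sSub C.m1 : Subgroup (Sp F n)) ≤ Gm ((C.m : ℕ) + 1) := sSub_le_gm C.hm.ge

/-- The root element `B e_m e_{m+1}`. -/
noncomputable def x1 : Sp F n := B (E C.m) (E C.m1)

theorem B_mem_m (a : F) : B (E C.m) (a • (E C.m1 : Vec F n)) ∈ mSub C.m := by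
  have := C.hm
  refine B_mem_mSub (by simp) (fun k => by simp) (fun k => by simp) (fun k h1 _ => ?_) fun k _ h2 => ?_
  · have : k ≠ C.m := fun e => h1 (by rw [e])
    simp [this]
  · have : k ≠ C.m1 := fun e => h2 (by rw [e, C.hm])
    simp [this]

theorem x1_mem : C.x1 ∈ mSub C.m := by
  have := C.B_mem_m (1 : F)
  rwa [one_smul] at this

theorem T_mem_m (c : F) : T (E C.m) c ∈ mSub C.m :=
  T_mem_mSub c (fun k => by simp) fun k h1 _ => by
    have : k ≠ C.m := fun e => h1 (by rw [e])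
    simp [this]

theorem T_mem_s (c : F) : T (E C.m) c ∈ sSub C.m :=
  T_mem_fixSub c fun k hk => by simp [hk]

theorem T1_mem_m (c : F) : T (E C.m1) c ∈ mSub C.m :=
  T_mem_mSub c (fun k => by simp) fun k _ h2 => by
    have : k ≠ C.m1 := fun e => h2 (by rw [e, C.hm])
    simp [this]

theorem ψ_eq_mu {g : Sp F n} (hg : g ∈ mSub C.m) (hg' : g ∈ Gm ((C.m : ℕ) + 1)) :
    C.ψ g = C.A.mu C.m g := by
  have h1 : g ∈ sSub C.m1 := fun k hk => by
    refine ⟨hg.1 k, ?_⟩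
    by_cases e : (k : ℕ) = C.m
    · exact (hg' k (by omega)).2
    · exact hg.2 k e fun e' => hk (Fin.ext (e'.trans C.hm.symm))
  rw [C.hψ.on_s C.m1 C.hm.ge g h1, (C.A.ms C.m C.m1 C.m_lt).eq_of_mem hg h1]

theorem commute_ψ_X {g : Sp F n} (hg : g ∈ Gm ((C.m : ℕ) + 1))
    (he : act g (E C.m1) = E C.m1) : Commute (C.ψ g) (C.A.mu C.m C.x1) := by
  have hx : ∀ {g : Sp F n}, g ∈ Gm ((C.m : ℕ) + 1) → act g (E C.m1) = E C.m1 →
      g * C.x1 = C.x1 * g := fun hg he =>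
    commute_B _ (by simp) (C.act_e hg) he
  -- the elements of `Gm (m + 2)`
  have hlow : ∀ g ∈ (Gm ((C.m : ℕ) + 1 + 1) : Subgroup (Sp F n)),
      Commute (C.ψ g) (C.A.mu C.m C.x1) := by
    intro g hg
    have hle : Subgroup.closure (gens ((C.m : ℕ) + 1 + 1)) ≤ (Gm ((C.m : ℕ) + 1) : Subgroup (Sp F n)) :=
      (closure_gens_le _).trans (gm_mono (by omega))
    refine Subgroup.closure_induction (p := fun x _ => Commute (C.ψ x) (C.A.mu C.m C.x1)) ?_ ?_ ?_ ?_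
      (C.hgen _ (by omega) hg)
    · rintro x ⟨j, hj, hx' | ⟨hj1, hx'⟩⟩
      · have hxg : x ∈ Gm ((C.m : ℕ) + 1 + 1) := sSub_le_gm hj hx'
        rw [C.hψ.on_s j (by omega) x hx']
        exact ((C.A.ms C.m j C.m_lt).commute C.x1_mem hx'
          (hx (gm_mono (by omega) hxg) (hxg C.m1 (show (C.m1 : ℕ) < (C.m : ℕ) + 1 + 1 by rw [C.hm]; omega)).1).symm).symm
      · have hxg : x ∈ Gm ((C.m : ℕ) + 1 + 1) := mSub_le_gm hj hx'
        rw [C.hψ.on_m j (by omega) hj1 x hx']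
        exact ((C.A.mm C.m j (fun e => by subst e; omega) C.m_lt hj1).commute C.x1_mem hx'
          (hx (gm_mono (by omega) hxg) (hxg C.m1 (show (C.m1 : ℕ) < (C.m : ℕ) + 1 + 1 by rw [C.hm]; omega)).1).symm).symm
    · rw [C.hψ.hom.one]; exact Commute.one_left _
    · intro x y hx' hy' h1 h2
      rw [C.hψ.hom x (hle hx') y (hle hy')]
      exact h1.mul_left h2
    · intro x hx' h1
      rw [C.hψ.hom.inv (hle hx')]
      exact h1.inv_left
  obtain ⟨w, hw, c, g', hg', rfl⟩ := stab_decomp C.hm hg he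
  have hw1 : Supp ((C.m : ℕ) + 1) w := hw.mono (by omega)
  have hew : om (E C.m1) w = 0 := hw.om_E (by rw [C.hm]; omega)
  have hB : B (E C.m1) w ∈ Gm ((C.m : ℕ) + 1) := B_mem_gm hew C.supp_e1 hw1
  have hT : T (E C.m1) c ∈ Gm ((C.m : ℕ) + 1) := T_mem_gm _ C.supp_e1
  have hg'' : g' ∈ Gm ((C.m : ℕ) + 1) := gm_mono (by omega) hg'
  rw [C.hψ.hom _ (mul_mem hB hT) _ hg'', C.hψ.hom _ hB _ hT]
  refine (Commute.mul_left ?_ ?_).mul_left (hlow g' hg')
  · rcases eq_or_ne w 0 with rfl | hw0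
    · rw [B_zero, C.hψ.hom.one]; exact Commute.one_left _
    have hlt : (C.m1 : ℕ) + 1 < n := by
      by_contra hc
      refine hw0 (vec_ext (fun l => ?_) fun l => ?_)
      · exact (hw l (by have := C.hm; have := l.2; omega)).1
      · exact (hw l (by have := C.hm; have := l.2; omega)).2
    set m2 : Fin n := ⟨(C.m1 : ℕ) + 1, hlt⟩ with hm2
    obtain ⟨a, ha, haw⟩ := exists_act_E (i := m2) (show (m2 : ℕ) = (C.m : ℕ) + 1 + 1 by
      simp [hm2, C.hm]) hw hw0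
    have h12 : (C.m1 : Fin n) ≠ m2 := fun e => by
      have h' : (C.m1 : ℕ) = (C.m1 : ℕ) + 1 := congrArg Fin.val e
      omega
    have hm20 : B (E C.m1) (E m2) ∈ (mSub C.m1 : Subgroup (Sp F n)) := by
      refine B_mem_mSub (by simp) (fun k => by simp) (fun k => by simp) (fun k h1 _ => ?_)
        fun k _ h2 => ?_
      · have : k ≠ C.m1 := fun e => h1 (by rw [e])
        simp [this]
      · have : k ≠ m2 := fun e => h2 (by rw [e])
        simp [this]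
    have hb : B (E C.m1) (E m2) ∈ Gm ((C.m : ℕ) + 1) := mSub_le_gm C.hm.ge hm20
    have ha' : a ∈ Gm ((C.m : ℕ) + 1) := gm_mono (by omega) ha
    have hae : act a (E C.m1) = E C.m1 := (ha C.m1 (show (C.m1 : ℕ) < (C.m : ℕ) + 1 + 1 by rw [C.hm]; omega)).1
    have e : B (E C.m1) w = a * B (E C.m1) (E m2) * a⁻¹ := by
      rw [conj_B a (by simp), hae, haw]
    rw [e, C.hψ.hom.conj ha' hb]
    refine ((hlow a ha).mul_left ?_).mul_left (hlow a ha).inv_left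
    rw [C.hψ.on_m C.m1 C.hm.ge hlt _ hm20]
    refine ((C.A.mm C.m C.m1 C.m_ne C.m_lt hlt).commute C.x1_mem hm20 (hx hb ?_).symm).symm
    rw [act_B (by simp)]
    simp
  · rw [C.ψ_eq_mu (C.T1_mem_m c) hT]
    refine (C.A.mu_hom C.m C.m_lt).comm (C.T1_mem_m c) C.x1_mem (hx hT ?_)
    simp [act_T]

open Classical in
/-- The lift of `B e_m u`. -/
noncomputable def bta (u : Vec F n) : H :=
  if h : ∃ g ∈ Gm ((C.m : ℕ) + 1), act g (E C.m1) = u then
    C.ψ h.choose * C.A.mu C.m C.x1 * (C.ψ h.choose)⁻¹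
  else 1

theorem bta_eq {u : Vec F n} {g : Sp F n} (hg : g ∈ Gm ((C.m : ℕ) + 1))
    (hgu : act g (E C.m1) = u) : C.bta u = C.ψ g * C.A.mu C.m C.x1 * (C.ψ g)⁻¹ := by
  have h : ∃ g ∈ Gm ((C.m : ℕ) + 1), act g (E C.m1) = u := ⟨g, hg, hgu⟩
  rw [bta, dif_pos h]
  obtain ⟨ha, hau⟩ := h.choose_spec
  generalize h.choose = a at ha hau ⊢
  have hc := C.commute_ψ_X (mul_mem (inv_mem hg) ha)
    (by rw [act_mul, hau, act_inv_of_act hgu])
  have e : C.ψ a = C.ψ g * C.ψ (g⁻¹ * a) := by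
    rw [← C.hψ.hom _ hg _ (mul_mem (inv_mem hg) ha), mul_inv_cancel_left]
  rw [e, mul_inv_rev]
  calc C.ψ g * C.ψ (g⁻¹ * a) * C.A.mu C.m C.x1 * ((C.ψ (g⁻¹ * a))⁻¹ * (C.ψ g)⁻¹)
      = C.ψ g * (C.ψ (g⁻¹ * a) * C.A.mu C.m C.x1) * (C.ψ (g⁻¹ * a))⁻¹ * (C.ψ g)⁻¹ := by group
    _ = C.ψ g * C.A.mu C.m C.x1 * (C.ψ g)⁻¹ := by rw [hc.eq]; group

theorem bta_zero : C.bta 0 = 1 := by
  rw [bta, dif_neg]
  rintro ⟨g, -, hg⟩
  refine act_ne_zero g ?_ hg
  intro h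
  simpa using congrFun h (Sum.inl C.m1)

theorem exists_g1 {u : Vec F n} (hu : Supp ((C.m : ℕ) + 1) u) (hu0 : u ≠ 0) :
    ∃ g ∈ Gm ((C.m : ℕ) + 1), act g (E C.m1) = u := exists_act_E C.hm hu hu0

theorem π_bta {u : Vec F n} (hu : Supp ((C.m : ℕ) + 1) u) : C.A.π (C.bta u) = B (E C.m) u := by
  rcases eq_or_ne u 0 with rfl | hu0
  · rw [C.bta_zero, map_one, B_zero]
  obtain ⟨g, hg, hgu⟩ := C.exists_g1 hu hu0
  rw [C.bta_eq hg hgu, map_mul, map_mul, map_inv, C.hψ.π_eq g hg,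
    C.A.π_mu C.m C.m_lt _ C.x1_mem, x1, conj_B g (by simp), C.act_e hg, hgu]

theorem bta_conj {u : Vec F n} (hu : Supp ((C.m : ℕ) + 1) u) {g : Sp F n}
    (hg : g ∈ Gm ((C.m : ℕ) + 1)) :
    C.ψ g * C.bta u * (C.ψ g)⁻¹ = C.bta (act g u) := by
  rcases eq_or_ne u 0 with rfl | hu0
  · rw [C.bta_zero, act_zero, C.bta_zero, mul_one, mul_inv_cancel]
  obtain ⟨a, ha, hau⟩ := C.exists_g1 hu hu0
  rw [C.bta_eq ha hau, C.bta_eq (mul_mem hg ha) (by rw [act_mul, hau]), C.hψ.hom _ hg _ ha]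
  group

theorem ψ_mul_bta {u : Vec F n} (hu : Supp ((C.m : ℕ) + 1) u) {g : Sp F n}
    (hg : g ∈ Gm ((C.m : ℕ) + 1)) : C.ψ g * C.bta u = C.bta (act g u) * C.ψ g := by
  rw [← C.bta_conj hu hg]; group

/-- The lift of `T e_m c`. -/
noncomputable def tau (c : F) : H := C.A.sg C.m (T (E C.m) c)

theorem tau_eq_mu (c : F) : C.tau c = C.A.mu C.m (T (E C.m) c) :=
  ((C.A.ms C.m C.m C.m_lt).eq_of_mem (C.T_mem_m c) (C.T_mem_s c)).symm

theorem tau_add (c d : F) : C.tau c * C.tau d = C.tau (c + d) := by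
  rw [tau, tau, tau, ← C.A.sg_hom C.m _ (C.T_mem_s c) _ (C.T_mem_s d), T_add]

theorem tau_zero : C.tau (0 : F) = 1 := by rw [tau, T_zero, (C.A.sg_hom C.m).one]

theorem π_tau (c : F) : C.A.π (C.tau c) = T (E C.m) c := C.A.π_sg _ _ (C.T_mem_s c)

theorem sg_comm_ψ {s g : Sp F n} (hs : s ∈ sSub C.m) (hg : g ∈ Gm ((C.m : ℕ) + 1)) :
    Commute (C.A.sg C.m s) (C.ψ g) := by
  have hle := closure_gens_le (F := F) (n := n) ((C.m : ℕ) + 1)
  have hgr : ∀ {x : Sp F n}, x ∈ Gm ((C.m : ℕ) + 1) → s * x = x * s := fun hx =>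
    commute_fixSub (fun k => by
      by_cases e : k = C.m
      · exact Or.inr (by rw [e]; omega)
      · exact Or.inl e) hs hx
  refine Subgroup.closure_induction (p := fun x _ => Commute (C.A.sg C.m s) (C.ψ x)) ?_ ?_ ?_ ?_
    (C.hgen _ le_rfl hg)
  · rintro x ⟨j, hj, hx | ⟨hj1, hx⟩⟩
    · rw [C.hψ.on_s j hj x hx]
      exact (C.A.ss C.m j (fun e => by subst e; omega)).commute hs hx (hgr (sSub_le_gm hj hx))
    · rw [C.hψ.on_m j hj hj1 x hx]
      exact ((C.A.ms j C.m hj1).commute hx hs (hgr (mSub_le_gm hj hx)).symm).symm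
  · rw [C.hψ.hom.one]; exact Commute.one_right _
  · intro x y hx hy h1 h2
    rw [C.hψ.hom x (hle hx) y (hle hy)]
    exact h1.mul_right h2
  · intro x hx h1
    rw [C.hψ.hom.inv (hle hx)]
    exact h1.inv_right

theorem tau_comm_bta (c : F) {u : Vec F n} (hu : Supp ((C.m : ℕ) + 1) u) :
    Commute (C.tau c) (C.bta u) := by
  rcases eq_or_ne u 0 with rfl | hu0
  · rw [C.bta_zero]; exact Commute.one_right _
  obtain ⟨g, hg, hgu⟩ := C.exists_g1 hu hu0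
  rw [C.bta_eq hg hgu]
  have h1 : Commute (C.tau c) (C.ψ g) := C.sg_comm_ψ (C.T_mem_s c) hg
  have h2 : Commute (C.tau c) (C.A.mu C.m C.x1) := by
    rw [C.tau_eq_mu]
    refine (C.A.mu_hom C.m C.m_lt).comm (C.T_mem_m c) C.x1_mem (commute_B _ (by simp) ?_ ?_)
    · simp [act_T]
    · simp [act_T, C.m_ne]
  exact (h1.mul_right h2).mul_right h1.inv_right

theorem bta_plane : ∃ Ψ : Sp F n → H, HomOn (mSub C.m ⊔ sSub C.m1) Ψ ∧
    (∀ x ∈ mSub C.m, Ψ x = C.A.mu C.m x) ∧ ∀ a b : F,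
      B (E C.m) (a • (E C.m1 : Vec F n) + b • Fb C.m1) ∈ mSub C.m ⊔ sSub C.m1 ∧
      C.bta (a • E C.m1 + b • Fb C.m1) = Ψ (B (E C.m) (a • E C.m1 + b • Fb C.m1)) := by
  obtain ⟨Ψ, hΨ, hA, hB⟩ := C.A.ms C.m C.m1 C.m_lt
  refine ⟨Ψ, hΨ, hA, fun a b => ?_⟩
  by_cases h : a ≠ 0 ∨ b ≠ 0
  · obtain ⟨s, hs, hse⟩ := exists_sl C.m1 a b h
    have hsm : act s (E C.m) = E C.m := (hs C.m C.m_ne).1
    have e : B (E C.m) (a • E C.m1 + b • Fb C.m1) = s * C.x1 * s⁻¹ := by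
      rw [x1, conj_B s (by simp), hsm, hse]
    refine ⟨e ▸ mul_mem (mul_mem (Subgroup.mem_sup_right hs) (Subgroup.mem_sup_left C.x1_mem))
      (Subgroup.mem_sup_right (inv_mem hs)), ?_⟩
    rw [C.bta_eq (C.s1_le hs) hse, e,
      hΨ.conj (Subgroup.mem_sup_right hs) (Subgroup.mem_sup_left C.x1_mem), hA _ C.x1_mem, hB _ hs,
      C.hψ.on_s C.m1 C.hm.ge s hs]
  · push Not at h
    rw [h.1, h.2]
    simp [C.bta_zero, hΨ.one]

theorem bta_smul_e1 (a : F) :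
    C.bta (a • E C.m1) = C.A.mu C.m (B (E C.m) (a • E C.m1)) := by
  obtain ⟨Ψ, -, hA, h⟩ := C.bta_plane
  have := (h a 0).2
  rw [zero_smul, add_zero] at this
  rw [this, hA _ (C.B_mem_m a)]

theorem bta_add_plane (a b : F) :
    C.bta (E C.m1) * C.bta (a • E C.m1 + b • Fb C.m1)
      = C.bta (E C.m1 + (a • E C.m1 + b • Fb C.m1)) *
        C.tau (om (E C.m1) (a • E C.m1 + b • Fb C.m1)) := by
  obtain ⟨Ψ, hΨ, hA, h⟩ := C.bta_plane
  have h1 := h 1 0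
  rw [one_smul, zero_smul, add_zero] at h1
  have h2 := h a b
  have e : E C.m1 + (a • E C.m1 + b • Fb C.m1)
      = ((1 + a) • E C.m1 + b • Fb C.m1 : Vec F n) := by module
  have h3 := h (1 + a) b
  rw [← e] at h3
  have hs : Supp ((C.m : ℕ) + 1) (a • E C.m1 + b • Fb C.m1 : Vec F n) :=
    (C.supp_e1.smul a).add (C.supp_f1.smul b)
  rw [h1.2, h2.2, h3.2, C.tau_eq_mu, ← hA _ (C.T_mem_m _), ← hΨ _ h1.1 _ h2.1,
    ← hΨ _ h3.1 _ (Subgroup.mem_sup_left (C.T_mem_m _)),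
    B_mul (C.om_e_of_supp C.supp_e1) (C.om_e_of_supp hs)]

theorem bta_add {u u' : Vec F n} (hu : Supp ((C.m : ℕ) + 1) u) (hu' : Supp ((C.m : ℕ) + 1) u') :
    C.bta u * C.bta u' = C.bta (u + u') * C.tau (om u u') := by
  -- conjugating back to `u = e_{m+1}`
  have move : ∀ {g : Sp F n} {u u' : Vec F n}, g ∈ Gm ((C.m : ℕ) + 1) →
      Supp ((C.m : ℕ) + 1) u → Supp ((C.m : ℕ) + 1) u' →
      C.bta u * C.bta u' = C.bta (u + u') * C.tau (om u u') →
      C.bta (act g u) * C.bta (act g u') =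
        C.bta (act g u + act g u') * C.tau (om (act g u) (act g u')) := by
    intro g u u' hg hu hu' h
    have ht : C.ψ g * C.tau (om u u') * (C.ψ g)⁻¹ = C.tau (om u u') := by
      show C.ψ g * C.A.sg C.m _ * (C.ψ g)⁻¹ = C.A.sg C.m _
      rw [(C.sg_comm_ψ (C.T_mem_s (om u u')) hg).symm.eq]
      exact mul_inv_cancel_right _ _
    rw [← act_add, om_act, ← C.bta_conj hu hg, ← C.bta_conj hu' hg, ← C.bta_conj (hu.add hu') hg]
    conv_rhs => rw [← ht]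
    calc C.ψ g * C.bta u * (C.ψ g)⁻¹ * (C.ψ g * C.bta u' * (C.ψ g)⁻¹)
        = C.ψ g * (C.bta u * C.bta u') * (C.ψ g)⁻¹ := by group
      _ = _ := by rw [h]; group
  -- the case of a non-perpendicular pair
  have key : ∀ {u u' : Vec F n}, Supp ((C.m : ℕ) + 1) u → Supp ((C.m : ℕ) + 1) u' →
      om u u' ≠ 0 → C.bta u * C.bta u' = C.bta (u + u') * C.tau (om u u') := by
    intro u u' hu hu' hp
    have hu0 : u ≠ 0 := fun h => hp (by rw [h, om_zero_left])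
    obtain ⟨g, hg, rfl⟩ := C.exists_g1 hu hu0
    obtain ⟨v, hv, rfl⟩ : ∃ v, Supp ((C.m : ℕ) + 1) v ∧ act g v = u' :=
      ⟨act g⁻¹ u', hu'.act (inv_mem hg), act_act_inv _ _⟩
    rw [om_act, om_E_left] at hp
    refine move hg C.supp_e1 hv ?_
    obtain ⟨hh, hhe, hhf⟩ := stab_elem (z := (v (Sum.inr C.m1))⁻¹ • v) C.hm
      (hv.smul _) (by simp [hp])
    generalize B (E C.m1) (pr C.m1 ((v (Sum.inr C.m1))⁻¹ • v)) *
      T (E C.m1) (((v (Sum.inr C.m1))⁻¹ • v) (Sum.inl C.m1)) = a at hh hhe hhf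
    have h1 := C.bta_add_plane 0 (v (Sum.inr C.m1))
    rw [zero_smul, zero_add] at h1
    have := move hh C.supp_e1 (C.supp_f1.smul _) h1
    rwa [hhe, act_smul, hhf, smul_smul, mul_inv_cancel₀ hp, one_smul] at this
  by_cases hp : om u u' ≠ 0
  · exact key hu hu' hp
  push Not at hp
  rcases eq_or_ne u 0 with rfl | hu0
  · simp [C.bta_zero, C.tau_zero]
  obtain ⟨g, hg, rfl⟩ := C.exists_g1 hu hu0
  obtain ⟨v, hv, rfl⟩ : ∃ v, Supp ((C.m : ℕ) + 1) v ∧ act g v = u' :=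
    ⟨act g⁻¹ u', hu'.act (inv_mem hg), act_act_inv _ _⟩
  refine move hg C.supp_e1 hv ?_
  rw [om_act] at hp
  by_cases hpl : ∀ l : Fin n, l ≠ C.m1 → v (Sum.inl l) = 0 ∧ v (Sum.inr l) = 0
  · have e : v = v (Sum.inl C.m1) • E C.m1 + v (Sum.inr C.m1) • Fb C.m1 := by
      refine vec_ext (fun l => ?_) fun l => ?_ <;> rcases eq_or_ne l C.m1 with h | h <;>
        simp_all
    rw [e]
    exact C.bta_add_plane _ _
  push Not at hpl
  obtain ⟨l, hl, hl'⟩ := hpl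
  have hl1 : (C.m : ℕ) + 1 ≤ l := by
    by_contra hc
    push Not at hc
    exact hl' (hv l hc).1 (hv l hc).2
  have hlm : C.m1 ≠ l := hl.symm
  obtain ⟨t, ht0, ht1⟩ := C.hfield
  obtain ⟨z, hz, hz1, hz2⟩ : ∃ z, Supp ((C.m : ℕ) + 1) z ∧ om (E C.m1) z = 1 ∧ om z v = t := by
    by_cases h : v (Sum.inl l) = 0
    · have hr : v (Sum.inr l) ≠ 0 := hl' h
      exact ⟨Fb C.m1 + ((t + v (Sum.inl C.m1)) / v (Sum.inr l)) • E l,
        C.supp_f1.add ((supp_E hl1).smul _), by simp [hlm], by simp [hr]⟩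
    · exact ⟨Fb C.m1 + (-(t + v (Sum.inl C.m1)) / v (Sum.inl l)) • Fb l,
        C.supp_f1.add ((supp_Fb hl1).smul _), by simp [hl], by simp [h]⟩
  have e1 : C.bta z * C.bta (v - z) = C.bta v * C.tau t := by
    rw [key hz (hv.sub hz) (by simp [hz2, ht0]), add_sub_cancel, om_sub_right, hz2, om_self, sub_zero]
  have e2 : C.bta (E C.m1) * C.bta z = C.bta (E C.m1 + z) * C.tau 1 := by
    rw [key C.supp_e1 hz (by simp [hz1]), hz1]
  have h5 : om (E C.m1 + z) (v - z) = t - 1 := by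
    simp only [om_sub_right, om_add_left, hp, hz1, hz2, om_self]
    ring
  have e3 : C.bta (E C.m1 + z) * C.bta (v - z) = C.bta (E C.m1 + v) * C.tau (t - 1) := by
    rw [key (C.supp_e1.add hz) (hv.sub hz) (by rw [h5]; exact sub_ne_zero.mpr ht1), h5,
      show E C.m1 + z + (v - z) = E C.m1 + v by abel]
  refine mul_right_cancel (b := C.tau t) ?_
  rw [hp, C.tau_zero, mul_one, mul_assoc, ← e1, ← mul_assoc, e2, mul_assoc,
    (C.tau_comm_bta 1 (hv.sub hz)).eq, ← mul_assoc, e3, mul_assoc, C.tau_add, sub_add_cancel]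

/-- The stabiliser of `e_m` in `Gm m`. -/
def stab : Subgroup (Sp F n) where
  carrier := {g | g ∈ Gm (C.m : ℕ) ∧ act g (E C.m) = E C.m}
  one_mem' := ⟨one_mem _, act_one _⟩
  mul_mem' {g h} hg hh := ⟨mul_mem hg.1 hh.1, by rw [act_mul, hh.2, hg.2]⟩
  inv_mem' {g} hg := ⟨inv_mem hg.1, act_inv_of_act hg.2⟩

/-- The lift on the stabiliser. -/
noncomputable def psiP (g : Sp F n) : H :=
  C.bta (pr C.m (act g (Fb C.m))) * C.tau (act g (Fb C.m) (Sum.inl C.m)) *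
    C.ψ ((B (E C.m) (pr C.m (act g (Fb C.m))) *
      T (E C.m) (act g (Fb C.m) (Sum.inl C.m)))⁻¹ * g)

theorem psiP_eq {u : Vec F n} (hu : Supp ((C.m : ℕ) + 1) u) (c : F) {g' : Sp F n}
    (hg' : g' ∈ Gm ((C.m : ℕ) + 1)) :
    C.psiP (B (E C.m) u * T (E C.m) c * g') = C.bta u * C.tau c * C.ψ g' := by
  have hl := hu C.m (Nat.lt_succ_self _)
  have hu1 : om u (Fb C.m) = 0 := by simp [hl.1]
  have hz : act (B (E C.m) u * T (E C.m) c * g') (Fb C.m) = u + c • E C.m + Fb C.m := by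
    rw [act_mul, act_mul, C.act_f hg', act_T, act_add, act_smul, act_B (C.om_e_of_supp hu),
      act_B (C.om_e_of_supp hu), hu1, C.om_e_of_supp' hu]
    simp only [om_E_left, Fb_inr, om_self, if_true, one_smul, zero_smul, add_zero, mul_one, E_inr]
    abel
  have h1 : pr C.m (u + c • E C.m + Fb C.m) = u := by
    simp only [pr, Pi.add_apply, Pi.smul_apply, E_inl, E_inr, Fb_inl, Fb_inr, hl.1, hl.2, if_true,
      smul_eq_mul]
    module
  have h2 : (u + c • E C.m + Fb C.m : Vec F n) (Sum.inl C.m) = c := by simp [hl.1]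
  rw [psiP, hz, h1, h2, inv_mul_cancel_left]

theorem stab_cases {g : Sp F n} (hg : g ∈ C.stab) : ∃ u, Supp ((C.m : ℕ) + 1) u ∧ ∃ c : F,
    ∃ g' ∈ Gm ((C.m : ℕ) + 1), g = B (E C.m) u * T (E C.m) c * g' :=
  stab_decomp rfl hg.1 hg.2

theorem B_mem_stab {u : Vec F n} (hu : Supp ((C.m : ℕ) + 1) u) : B (E C.m) u ∈ C.stab :=
  ⟨B_mem_gm (C.om_e_of_supp hu) (supp_E le_rfl) (hu.mono (Nat.le_succ _)), by
    rw [act_B (C.om_e_of_supp hu), om_self, C.om_e_of_supp' hu]; simp⟩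

theorem T_mem_stab (c : F) : T (E C.m) c ∈ C.stab :=
  ⟨T_mem_gm c (supp_E le_rfl), by simp [act_T]⟩

theorem gm_le_stab : (Gm ((C.m : ℕ) + 1) : Subgroup (Sp F n)) ≤ C.stab := fun _ hg =>
  ⟨gm_mono (Nat.le_succ _) hg, C.act_e hg⟩

theorem psiP_hom : HomOn C.stab C.psiP := by
  intro x hx y hy
  obtain ⟨u, hu, c, a, ha, rfl⟩ := C.stab_cases hx
  obtain ⟨v, hv, d, b, hb, rfl⟩ := C.stab_cases hy
  have hv' : Supp ((C.m : ℕ) + 1) (act a v) := hv.act ha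
  have e1 : a * B (E C.m) v = B (E C.m) (act a v) * a := by
    rw [← eq_mul_inv_iff_mul_eq.mp ((conj_B a (C.om_e_of_supp hv)).symm.trans (by group : a * B (E C.m) v * a⁻¹ = (a * B (E C.m) v) * a⁻¹)), C.act_e ha]
  have e2 : a * T (E C.m) d = T (E C.m) d * a := commute_T a d (C.act_e ha)
  have e3 : T (E C.m) c * B (E C.m) (act a v) = B (E C.m) (act a v) * T (E C.m) c :=
    commute_B _ (C.om_e_of_supp hv') (by simp [act_T]) (by simp [act_T, (hv' C.m (Nat.lt_succ_self _)).2])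
  have hprod : B (E C.m) u * T (E C.m) c * a * (B (E C.m) v * T (E C.m) d * b) =
      B (E C.m) (u + act a v) * T (E C.m) (om u (act a v) + (c + d)) * (a * b) := by
    calc B (E C.m) u * T (E C.m) c * a * (B (E C.m) v * T (E C.m) d * b)
        = B (E C.m) u * T (E C.m) c * (a * B (E C.m) v) * T (E C.m) d * b := by group
      _ = B (E C.m) u * (T (E C.m) c * B (E C.m) (act a v)) * (a * T (E C.m) d) * b := by
          rw [e1]; group
      _ = (B (E C.m) u * B (E C.m) (act a v)) * (T (E C.m) c * T (E C.m) d) * (a * b) := by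
          rw [e2, e3]; group
      _ = _ := by
          rw [B_mul (C.om_e_of_supp hu) (C.om_e_of_supp hv'), ← T_add (E C.m) (om u (act a v)),
            ← T_add (E C.m) c d]
          group
  rw [hprod, C.psiP_eq (hu.add hv') _ (mul_mem ha hb), C.psiP_eq hu c ha, C.psiP_eq hv d hb]
  have f1 := C.ψ_mul_bta hv ha
  have f2 : C.ψ a * C.tau d = C.tau d * C.ψ a := (C.sg_comm_ψ (C.T_mem_s d) ha).symm.eq
  have f3 := (C.tau_comm_bta c hv').eq
  symm
  calc C.bta u * C.tau c * C.ψ a * (C.bta v * C.tau d * C.ψ b)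
      = C.bta u * C.tau c * (C.ψ a * C.bta v) * C.tau d * C.ψ b := by group
    _ = C.bta u * (C.tau c * C.bta (act a v)) * (C.ψ a * C.tau d) * C.ψ b := by rw [f1]; group
    _ = (C.bta u * C.bta (act a v)) * (C.tau c * C.tau d) * (C.ψ a * C.ψ b) := by
        rw [f2, f3]; group
    _ = _ := by
        rw [C.bta_add hu hv', C.tau_add, C.hψ.hom a ha b hb, ← C.tau_add (om u (act a v))]
        group

theorem π_psiP {g : Sp F n} (hg : g ∈ C.stab) : C.A.π (C.psiP g) = g := by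
  obtain ⟨u, hu, c, a, ha, rfl⟩ := C.stab_cases hg
  rw [C.psiP_eq hu c ha, map_mul, map_mul, C.π_bta hu, C.π_tau, C.hψ.π_eq a ha]

theorem mSub_le_stab : (mSub C.m : Subgroup (Sp F n)) ≤ C.stab := fun _ hg =>
  ⟨mSub_le_gm le_rfl hg, hg.1 _⟩

theorem psiP_eq_mu {g : Sp F n} (hg : g ∈ mSub C.m) : C.psiP g = C.A.mu C.m g := by
  obtain ⟨u, hu, c, a, ha, rfl⟩ := C.stab_cases (C.mSub_le_stab hg)
  set k := B (E C.m) u * T (E C.m) c * a with hk
  have hz : act k (Fb C.m) = u + (c • E C.m + Fb C.m) := by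
    rw [hk, act_mul, act_mul, C.act_f ha, act_T, act_add, act_smul,
      act_B (C.om_e_of_supp hu), act_B (C.om_e_of_supp hu), C.om_e_of_supp' hu]
    simp only [om_E_left, Fb_inr, om_Fb_right, E_inl, (hu C.m (Nat.lt_succ_self _)).1, if_true, one_smul,
      zero_smul, add_zero, mul_one, E_inr]
    abel
  have hr : ∀ l : Fin n, u (Sum.inr l) = 0 := by
    intro l
    rcases eq_or_ne l C.m with rfl | hl
    · exact (hu C.m (Nat.lt_succ_self _)).2
    · have h := om_act k (E l) (Fb C.m)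
      rw [hg.1 l, hz] at h
      simpa [hl, Ne.symm hl, neg_eq_zero] using h
  have hl' : ∀ l : Fin n, l ≠ C.m1 → u (Sum.inl l) = 0 := by
    intro l hl1
    rcases eq_or_ne l C.m with rfl | hl
    · exact (hu C.m (Nat.lt_succ_self _)).1
    · have h := om_act k (Fb l) (Fb C.m)
      rw [hg.2 l (fun e => hl (Fin.ext e)) (fun e => hl1 (Fin.ext (e.trans C.hm.symm))), hz] at h
      simpa [hl, Ne.symm hl, neg_eq_zero] using h
  have hue : u = u (Sum.inl C.m1) • E C.m1 := by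
    refine vec_ext (fun l => ?_) fun l => ?_
    · rcases eq_or_ne l C.m1 with rfl | h
      · simp
      · simp [hl' l h, h]
    · simp [hr l]
  set x := u (Sum.inl C.m1) with hx
  rw [hue] at hk
  have ha' : a ∈ mSub C.m := by
    have e : a = (T (E C.m) c)⁻¹ * ((B (E C.m) (x • E C.m1))⁻¹ * k) := by rw [hk]; group
    rw [e]
    refine mul_mem (inv_mem (C.T_mem_m c)) (mul_mem (inv_mem (C.B_mem_m x)) hg)
  rw [hk, C.psiP_eq (C.supp_e1.smul x) c ha, C.bta_smul_e1, C.tau_eq_mu, C.ψ_eq_mu ha' ha,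
    C.A.mu_hom C.m C.m_lt _ (mul_mem (C.B_mem_m x) (C.T_mem_m c)) _ ha',
    C.A.mu_hom C.m C.m_lt _ (C.B_mem_m x) _ (C.T_mem_m c)]

/-- The lifted stabiliser. -/
noncomputable def K : Subgroup H where
  carrier := C.psiP '' (C.stab : Set (Sp F n))
  one_mem' := ⟨1, one_mem _, C.psiP_hom.one⟩
  mul_mem' := by
    rintro _ _ ⟨x, hx, rfl⟩ ⟨y, hy, rfl⟩
    exact ⟨x * y, mul_mem hx hy, C.psiP_hom x hx y hy⟩
  inv_mem' := by
    rintro _ ⟨x, hx, rfl⟩
    exact ⟨x⁻¹, inv_mem hx, C.psiP_hom.inv hx⟩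

theorem bta_mem_K {u : Vec F n} (hu : Supp ((C.m : ℕ) + 1) u) : C.bta u ∈ C.K :=
  ⟨B (E C.m) u * T (E C.m) 0 * 1, by simpa using C.B_mem_stab hu, by
    rw [C.psiP_eq hu 0 (one_mem _), C.tau_zero, C.hψ.hom.one, mul_one, mul_one]⟩

theorem tau_mem_K (c : F) : C.tau c ∈ C.K :=
  ⟨B (E C.m) 0 * T (E C.m) c * 1, by simpa using C.T_mem_stab c, by
    rw [C.psiP_eq (supp_zero _) c (one_mem _), C.bta_zero, C.hψ.hom.one, one_mul, mul_one]⟩

theorem ψ_mem_K {g : Sp F n} (hg : g ∈ Gm ((C.m : ℕ) + 1)) : C.ψ g ∈ C.K :=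
  ⟨B (E C.m) 0 * T (E C.m) 0 * g, by simpa using C.gm_le_stab hg, by
    rw [C.psiP_eq (supp_zero _) 0 hg, C.bta_zero, C.tau_zero, one_mul, one_mul]⟩

theorem mu_mem_K {g : Sp F n} (hg : g ∈ mSub C.m) : C.A.mu C.m g ∈ C.K :=
  ⟨g, C.mSub_le_stab hg, C.psiP_eq_mu hg⟩

end Ctx

end Cfsg.Agent.Lib.SpAmalgam
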