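import Cfsg.Agent.Lib.SpAmalgam.Cosets

/-!
The downward induction solving the extension problem on the whole symplectic group.
-/

set_option autoImplicit false

namespace Cfsg.Agent.Lib.SpAmalgam

variable {F : Type*} [Field F] {n : ℕ}

theorem gm_eq_sSub {m : Fin n} (hm : (m : ℕ) + 1 = n) :
    (Gm (m : ℕ) : Subgroup (Sp F n)) = sSub m := by
  refine le_antisymm (fixSub_mono fun l hl => ?_) (sSub_le_gm le_rfl)
  have := Fin.val_ne_of_ne hl
  have := l.2
  omega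

variable {H : Type*} [Group H]

theorem exists_ext (A : Amalg F n H) (hF : ∃ t : F, t ≠ 0 ∧ t ≠ 1) :
    ∀ d k : ℕ, k + d + 1 = n → (∃ ψ, Ext A k ψ) ∧
      ∀ k', k ≤ k' → (Gm k' : Subgroup (Sp F n)) ≤ Subgroup.closure (gens k') := by
  intro d
  induction d with
  | zero =>
    intro k hk
    obtain ⟨m, rfl⟩ : ∃ m : Fin n, (m : ℕ) = k := ⟨⟨k, by omega⟩, rfl⟩
    have hG := gm_eq_sSub (F := F) (m := m) (by omega)
    refine ⟨⟨A.sg m, ?_, ?_, ?_, ?_⟩, ?_⟩
    · rw [hG]; exact A.sg_hom m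
    · rw [hG]; exact A.π_sg m
    · intro j hj x _
      obtain rfl : m = j := Fin.ext (by have := j.2; omega)
      rfl
    · intro i hi hi1
      omega
    · intro k' hk'
      rcases eq_or_lt_of_le hk' with e | e
      · subst e
        rw [hG]
        exact fun x hx => Subgroup.subset_closure ⟨m, le_rfl, Or.inl hx⟩
      · rw [gm_eq_bot (by omega)]
        exact bot_le
  | succ d ih =>
    intro k hk
    obtain ⟨⟨ψ, hψ⟩, hgen⟩ := ih (k + 1) (by omega)
    let C : Ctx F n H :=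
      { A := A, m := ⟨k, by omega⟩, m1 := ⟨k + 1, by omega⟩, hm := rfl, ψ := ψ, hψ := hψ,
        hgen := hgen, hfield := hF }
    refine ⟨⟨C.next, C.ext_next⟩, fun k' hk' => ?_⟩
    rcases eq_or_lt_of_le hk' with e | e
    · subst e
      exact C.gm_le_closure
    · exact hgen k' e

theorem exists_ext_zero (A : Amalg F n H) (hF : ∃ t : F, t ≠ 0 ∧ t ≠ 1) (hn : 1 ≤ n) :
    (∃ ψ, Ext A 0 ψ) ∧ Subgroup.closure (gens 0 : Set (Sp F n)) = ⊤ := by
  obtain ⟨h1, h2⟩ := exists_ext A hF (n - 1) 0 (by omega)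
  refine ⟨h1, top_le_iff.mp ?_⟩
  rw [← gm_zero]
  exact h2 0 le_rfl

open Classical in
/-- A homomorphism on a subgroup, made total and paired with the identity. -/
noncomputable def pairUp {G H : Type*} [Group G] [Group H] (A : Subgroup G) (f : A →* H) :
    G → H × G :=
  fun x => (if hx : x ∈ A then f ⟨x, hx⟩ else 1, x)

theorem pairUp_fst {G H : Type*} [Group G] [Group H] (A : Subgroup G) (f : A →* H) {x : G}
    (hx : x ∈ A) : (pairUp A f x).1 = f ⟨x, hx⟩ := by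
  simp [pairUp, hx]

theorem homOn_pairUp {G H : Type*} [Group G] [Group H] (A : Subgroup G) (f : A →* H) :
    HomOn A (pairUp A f) := by
  intro x hx y hy
  refine Prod.ext ?_ rfl
  rw [Prod.fst_mul, pairUp_fst A f hx, pairUp_fst A f hy, pairUp_fst A f (mul_mem hx hy), ← map_mul]
  rfl

theorem coh_pairUp {G H : Type*} [Group G] [Group H] {A B : Subgroup G} {fA : A →* H}
    {fB : B →* H} (h : ∃ Ψ : ↥(A ⊔ B) →* H,
      (∀ (g : G) (hg : g ∈ A), Ψ ⟨g, Subgroup.mem_sup_left hg⟩ = fA ⟨g, hg⟩) ∧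
        ∀ (g : G) (hg : g ∈ B), Ψ ⟨g, Subgroup.mem_sup_right hg⟩ = fB ⟨g, hg⟩) :
    Coh A B (pairUp A fA) (pairUp B fB) := by
  obtain ⟨Ψ, hA, hB⟩ := h
  refine ⟨pairUp (A ⊔ B) Ψ, homOn_pairUp _ _, fun x hx => Prod.ext ?_ rfl, fun x hx => Prod.ext ?_ rfl⟩
  · rw [pairUp_fst _ _ (Subgroup.mem_sup_left hx), pairUp_fst _ _ hx, hA]
  · rw [pairUp_fst _ _ (Subgroup.mem_sup_right hx), pairUp_fst _ _ hx, hB]

end Cfsg.Agent.Lib.SpAmalgam
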