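import Cfsg.Agent.Lib.SpAmalgam.Basic

/-!
The subgroups `Gm k` fixing the first `k` hyperbolic pairs: transitivity on vectors and the
stabiliser of `e_k`; homomorphisms on subgroups given by total functions; amalgam data.
-/

set_option autoImplicit false

namespace Cfsg.Agent.Lib.SpAmalgam

variable {F : Type*} [Field F] {n : ℕ}

/-- The elements fixing all pairs of index `< k`. -/
abbrev Gm (k : ℕ) : Subgroup (Sp F n) := fixSub fun l : Fin n => (l : ℕ) < k

/-- The elements fixing all pairs of index `≠ j`. -/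
abbrev sSub (j : Fin n) : Subgroup (Sp F n) := fixSub fun l : Fin n => l ≠ j

/-- Vectors supported on the pairs of index `≥ k`. -/
def Supp (k : ℕ) (v : Vec F n) : Prop :=
  ∀ l : Fin n, (l : ℕ) < k → v (Sum.inl l) = 0 ∧ v (Sum.inr l) = 0

theorem Supp.mono {k k' : ℕ} {v : Vec F n} (h : Supp k v) (hk : k' ≤ k) : Supp k' v :=
  fun l hl => h l (lt_of_lt_of_le hl hk)

theorem supp_E {k : ℕ} {i : Fin n} (h : k ≤ i) : Supp k (E i : Vec F n) := fun l hl => by
  have : l ≠ i := fun e => by subst e; omega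
  simp [this]

theorem supp_Fb {k : ℕ} {i : Fin n} (h : k ≤ i) : Supp k (Fb i : Vec F n) := fun l hl => by
  have : l ≠ i := fun e => by subst e; omega
  simp [this]

theorem Supp.add {k : ℕ} {u v : Vec F n} (hu : Supp k u) (hv : Supp k v) : Supp k (u + v) :=
  fun l hl => by simp [(hu l hl).1, (hu l hl).2, (hv l hl).1, (hv l hl).2]

theorem Supp.sub {k : ℕ} {u v : Vec F n} (hu : Supp k u) (hv : Supp k v) : Supp k (u - v) :=
  fun l hl => by simp [(hu l hl).1, (hu l hl).2, (hv l hl).1, (hv l hl).2]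

theorem Supp.neg {k : ℕ} {u : Vec F n} (hu : Supp k u) : Supp k (-u) :=
  fun l hl => by simp [(hu l hl).1, (hu l hl).2]

theorem Supp.smul {k : ℕ} {u : Vec F n} (hu : Supp k u) (c : F) : Supp k (c • u) :=
  fun l hl => by simp [(hu l hl).1, (hu l hl).2]

theorem supp_zero (k : ℕ) : Supp k (0 : Vec F n) := fun l _ => by simp

theorem Supp.act {k : ℕ} {g : Sp F n} (hg : g ∈ Gm k) {v : Vec F n} (hv : Supp k v) :
    Supp k (act g v) := fun l hl => by
  rw [(coord_of_fixSub hg (k := l) hl v).1, (coord_of_fixSub hg (k := l) hl v).2]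
  exact hv l hl

theorem Supp.om_E {k : ℕ} {v : Vec F n} (hv : Supp k v) {i : Fin n} (hi : (i : ℕ) < k) :
    om (E i) v = 0 := by simp [(hv i hi).2]

theorem Supp.om_Fb {k : ℕ} {v : Vec F n} (hv : Supp k v) {i : Fin n} (hi : (i : ℕ) < k) :
    om (Fb i) v = 0 := by simp [(hv i hi).1]

theorem gm_mono {k k' : ℕ} (h : k ≤ k') : (Gm k' : Subgroup (Sp F n)) ≤ Gm k :=
  fixSub_mono fun _ hl => lt_of_lt_of_le hl h

theorem sSub_le_gm {j : Fin n} {k : ℕ} (h : k ≤ j) : (sSub j : Subgroup (Sp F n)) ≤ Gm k :=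
  fixSub_mono fun l hl e => by subst e; omega

theorem mSub_le_gm {i : Fin n} {k : ℕ} (h : k ≤ i) : (mSub i : Subgroup (Sp F n)) ≤ Gm k :=
  fun _ hg l hl => ⟨hg.1 l, hg.2 l (by omega) (by omega)⟩

theorem gm_eq_bot {k : ℕ} (h : n ≤ k) : (Gm k : Subgroup (Sp F n)) = ⊥ :=
  le_bot_iff.mp fun g hg => Subgroup.mem_bot.mpr <| sp_ext_basis
    (fun l => by rw [(hg l (lt_of_lt_of_le l.2 h)).1, act_one])
    (fun l => by rw [(hg l (lt_of_lt_of_le l.2 h)).2, act_one])

theorem gm_zero : (Gm 0 : Subgroup (Sp F n)) = ⊤ :=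
  top_le_iff.mp fun _ _ l hl => absurd hl (Nat.not_lt_zero _)

theorem B_mem_gm {k : ℕ} {a u : Vec F n} (h : om a u = 0) (ha : Supp k a) (hu : Supp k u) :
    B a u ∈ Gm k := B_mem_fixSub h ha hu

theorem T_mem_gm {k : ℕ} {a : Vec F n} (c : F) (ha : Supp k a) : T a c ∈ Gm k := T_mem_fixSub c ha

/-- Deleting the coordinates of the plane of index `i`. -/
def pr (i : Fin n) (v : Vec F n) : Vec F n :=
  v - v (Sum.inl i) • E i - v (Sum.inr i) • Fb i

theorem pr_add_plane (i : Fin n) (v : Vec F n) :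
    pr i v + (v (Sum.inl i) • E i + v (Sum.inr i) • Fb i) = v := by
  rw [pr]; abel

theorem supp_pr {k : ℕ} {i : Fin n} (hi : (i : ℕ) = k) {v : Vec F n} (hv : Supp k v) :
    Supp (k + 1) (pr i v) := fun l hl => by
  rcases eq_or_ne l i with e | e
  · subst e; simp [pr]
  · have hl' : (l : ℕ) < k := by have := Fin.val_ne_of_ne e; omega
    simp [pr, e, (hv l hl').1, (hv l hl').2]

/-- `Gm k` is transitive on the nonzero vectors supported on the indices `≥ k`. -/
theorem exists_act_E {k : ℕ} {i : Fin n} (hi : (i : ℕ) = k) {u : Vec F n} (hu : Supp k u)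
    (hu0 : u ≠ 0) : ∃ g ∈ Gm k, act g (E i) = u := by
  have step : ∀ x y : Vec F n, Supp k x → Supp k y → om x y ≠ 0 → ∃ g ∈ Gm k, act g x = y := by
    intro x y hx hy hxy
    refine ⟨T (y - x) (om y x)⁻¹, T_mem_gm _ (hy.sub hx), ?_⟩
    have hyx : om y x ≠ 0 := by rw [om_swap]; exact neg_ne_zero.mpr hxy
    rw [act_T, om_sub_left, om_self, sub_zero, inv_mul_cancel₀ hyx, one_smul]
    abel
  have hE : Supp k (E i : Vec F n) := supp_E hi.ge
  by_cases h1 : u (Sum.inr i) ≠ 0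
  · exact step _ _ hE hu (by simpa using h1)
  push Not at h1
  obtain ⟨w, hw, hw1, hw2⟩ : ∃ w, Supp k w ∧ om (E i) w ≠ 0 ∧ om w u ≠ 0 := by
    by_cases h2 : u (Sum.inl i) ≠ 0
    · exact ⟨Fb i, supp_Fb hi.ge, by simp, by simpa using h2⟩
    push Not at h2
    obtain ⟨l, hl⟩ : ∃ l, u (Sum.inl l) ≠ 0 ∨ u (Sum.inr l) ≠ 0 := by
      by_contra h
      push Not at h
      exact hu0 (vec_ext (fun l => by simp [(h l).1]) fun l => by simp [(h l).2])
    have hkl : k ≤ l := by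
      by_contra hc
      push Not at hc
      exact hl.elim (fun h => h (hu l hc).1) (fun h => h (hu l hc).2)
    have hli : i ≠ l := fun e => by subst e; exact hl.elim (fun h => h h2) (fun h => h h1)
    rcases hl with hl | hl
    · exact ⟨Fb i + Fb l, (supp_Fb hi.ge).add (supp_Fb hkl), by simp [hli, Ne.symm hli], by simp [h2, hl]⟩
    · exact ⟨Fb i + E l, (supp_Fb hi.ge).add (supp_E hkl), by simp, by simp [h2, hl]⟩
  obtain ⟨g, hg, hgw⟩ := step _ _ hE hw hw1
  obtain ⟨g', hg', hgu⟩ := step _ _ hw hu hw2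
  exact ⟨g' * g, mul_mem hg' hg, by rw [act_mul, hgw, hgu]⟩

/-- A vector with `i`-th second coordinate `1` is the image of `f_i` under the stabiliser of
`e_i`. -/
theorem stab_elem {k : ℕ} {i : Fin n} (hi : (i : ℕ) = k) {z : Vec F n} (hz : Supp k z)
    (h1 : z (Sum.inr i) = 1) :
    B (E i) (pr i z) * T (E i) (z (Sum.inl i)) ∈ Gm k ∧
    act (B (E i) (pr i z) * T (E i) (z (Sum.inl i))) (E i) = E i ∧
    act (B (E i) (pr i z) * T (E i) (z (Sum.inl i))) (Fb i) = z := by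
  have hp := supp_pr hi hz
  have h0 : om (E i) (pr i z) = 0 := hp.om_E (by omega)
  have h0' : om (pr i z) (Fb i) = 0 := by
    rw [om_swap, hp.om_Fb (by omega), neg_zero]
  have h0'' : om (pr i z) (E i) = 0 := by rw [om_swap, h0, neg_zero]
  refine ⟨mul_mem (B_mem_gm h0 (supp_E hi.ge) (hp.mono (Nat.le_succ k)))
    (T_mem_gm _ (supp_E hi.ge)), ?_, ?_⟩
  · rw [act_mul, act_T, om_self, mul_zero, zero_smul, add_zero, act_B h0, om_self, h0'']
    simp
  · rw [act_mul, act_T, act_add, act_smul, act_B h0, act_B h0, h0', h0'', om_self]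
    have := pr_add_plane i z
    rw [h1, one_smul] at this
    simp only [om_E_left, Fb_inr, if_true, mul_one, one_smul, zero_smul, add_zero]
    conv_rhs => rw [← this]
    abel

/-- The stabiliser of `e_i` in `Gm k`. -/
theorem stab_decomp {k : ℕ} {i : Fin n} (hi : (i : ℕ) = k) {g : Sp F n} (hg : g ∈ Gm k)
    (he : act g (E i) = E i) :
    ∃ w, Supp (k + 1) w ∧ ∃ c : F, ∃ g' ∈ Gm (k + 1), g = B (E i) w * T (E i) c * g' := by
  have hz : Supp k (act g (Fb i)) := (supp_Fb hi.ge).act hg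
  have h1 : act g (Fb i) (Sum.inr i) = 1 := by
    rw [← om_E_left i (act g (Fb i))]
    conv_lhs => rw [← he]
    simp
  obtain ⟨hm, hmE, hmF⟩ := stab_elem hi hz h1
  refine ⟨_, supp_pr hi hz, act g (Fb i) (Sum.inl i),
    (B (E i) (pr i (act g (Fb i))) * T (E i) (act g (Fb i) (Sum.inl i)))⁻¹ * g, ?_,
    (mul_inv_cancel_left _ _).symm⟩
  intro l hl
  rcases eq_or_ne l i with e | e
  · subst e
    exact ⟨by rw [act_mul, he, act_inv_of_act hmE], by rw [act_mul, act_inv_of_act hmF]⟩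
  · have hl' : (l : ℕ) < k := by have := Fin.val_ne_of_ne e; omega
    exact mul_mem (inv_mem hm) hg l hl'

/-- A homomorphism on a subgroup, given by a total function. -/
def HomOn {G H : Type*} [Group G] [Group H] (A : Subgroup G) (f : G → H) : Prop :=
  ∀ x ∈ A, ∀ y ∈ A, f (x * y) = f x * f y

namespace HomOn

variable {G H : Type*} [Group G] [Group H] {A : Subgroup G} {f : G → H}

theorem one (h : HomOn A f) : f 1 = 1 := by
  have := h 1 A.one_mem 1 A.one_mem
  rw [mul_one] at this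
  exact mul_left_cancel (this.symm.trans (mul_one (f 1)).symm)

theorem inv (h : HomOn A f) {x : G} (hx : x ∈ A) : f x⁻¹ = (f x)⁻¹ := by
  refine eq_inv_of_mul_eq_one_left ?_
  rw [← h _ (A.inv_mem hx) _ hx, inv_mul_cancel, h.one]

theorem conj (h : HomOn A f) {x y : G} (hx : x ∈ A) (hy : y ∈ A) :
    f (x * y * x⁻¹) = f x * f y * (f x)⁻¹ := by
  rw [h _ (A.mul_mem hx hy) _ (A.inv_mem hx), h _ hx _ hy, h.inv hx]

theorem comm (h : HomOn A f) {x y : G} (hx : x ∈ A) (hy : y ∈ A) (hxy : x * y = y * x) :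
    Commute (f x) (f y) := by
  show f x * f y = f y * f x
  rw [← h _ hx _ hy, hxy, h _ hy _ hx]

end HomOn

/-- Two partial homomorphisms extend to the subgroup generated by their domains. -/
def Coh {G H : Type*} [Group G] [Group H] (A B : Subgroup G) (fA fB : G → H) : Prop :=
  ∃ Ψ : G → H, HomOn (A ⊔ B) Ψ ∧ (∀ x ∈ A, Ψ x = fA x) ∧ ∀ x ∈ B, Ψ x = fB x

namespace Coh

variable {G H : Type*} [Group G] [Group H] {A B : Subgroup G} {fA fB : G → H}

theorem commute (h : Coh A B fA fB) {x y : G} (hx : x ∈ A) (hy : y ∈ B) (hxy : x * y = y * x) :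
    Commute (fA x) (fB y) := by
  obtain ⟨Ψ, hΨ, hA, hB⟩ := h
  rw [← hA x hx, ← hB y hy]
  exact hΨ.comm (Subgroup.mem_sup_left hx) (Subgroup.mem_sup_right hy) hxy

theorem eq_of_mem (h : Coh A B fA fB) {x : G} (hx : x ∈ A) (hx' : x ∈ B) : fA x = fB x := by
  obtain ⟨Ψ, -, hA, hB⟩ := h
  rw [← hA x hx, hB x hx']

end Coh

/-- The amalgam of the subgroups `sSub j` and `mSub i` in a group over `Sp`. -/
structure Amalg (F : Type*) [Field F] (n : ℕ) (H : Type*) [Group H] where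
  π : H →* Sp F n
  sg : Fin n → Sp F n → H
  mu : Fin n → Sp F n → H
  sg_hom : ∀ j, HomOn (sSub j) (sg j)
  mu_hom : ∀ i : Fin n, (i : ℕ) + 1 < n → HomOn (mSub i) (mu i)
  π_sg : ∀ j : Fin n, ∀ x ∈ sSub j, π (sg j x) = x
  π_mu : ∀ i : Fin n, (i : ℕ) + 1 < n → ∀ x ∈ mSub i, π (mu i x) = x
  ss : ∀ j l : Fin n, j ≠ l → Coh (sSub j) (sSub l) (sg j) (sg l)
  mm : ∀ i l : Fin n, i ≠ l → (i : ℕ) + 1 < n → (l : ℕ) + 1 < n →
    Coh (mSub i) (mSub l) (mu i) (mu l)
  ms : ∀ i j : Fin n, (i : ℕ) + 1 < n → Coh (mSub i) (sSub j) (mu i) (sg j)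

/-- The generators with index at least `k`. -/
def gens (k : ℕ) : Set (Sp F n) :=
  {g | ∃ j : Fin n, k ≤ j ∧ (g ∈ sSub j ∨ (j : ℕ) + 1 < n ∧ g ∈ mSub j)}

theorem gens_mono {k k' : ℕ} (h : k ≤ k') : (gens k' : Set (Sp F n)) ⊆ gens k :=
  fun _ ⟨j, hj, hg⟩ => ⟨j, h.trans hj, hg⟩

theorem closure_gens_le (k : ℕ) : Subgroup.closure (gens k : Set (Sp F n)) ≤ Gm k := by
  rw [Subgroup.closure_le]
  rintro g ⟨j, hj, hg | ⟨-, hg⟩⟩
  · exact sSub_le_gm hj hg
  · exact mSub_le_gm hj hg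

variable {H : Type*} [Group H]

/-- A solution of the extension problem on `Gm k`. -/
structure Ext (A : Amalg F n H) (k : ℕ) (ψ : Sp F n → H) : Prop where
  hom : HomOn (Gm k) ψ
  π_eq : ∀ x ∈ Gm k, A.π (ψ x) = x
  on_s : ∀ j : Fin n, k ≤ j → ∀ x ∈ sSub j, ψ x = A.sg j x
  on_m : ∀ i : Fin n, k ≤ i → (i : ℕ) + 1 < n → ∀ x ∈ mSub i, ψ x = A.mu i x

end Cfsg.Agent.Lib.SpAmalgam
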